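import Mathlib
import Cfsg.Agent.Lib.AutPSL.FieldAut
import Cfsg.Agent.Lib.Classical.Quad.Basic

/-!
Galois descent for semilinear maps `v ↦ g σ(v)` of a coordinate space with a quadratic form whose
coefficients are fixed by `σ`: if the `r`-th iterate is a scalar (`r = orderOf σ`) then, after a scaling,
there is a basis of fixed vectors, and the form on it is a constant times a form over the fixed field.
Also base change of similarities along an embedding of fields.
-/

set_option autoImplicit false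
set_option linter.style.haveILetI false
set_option linter.unusedSectionVars false

namespace CfsgLib.Descent

open Matrix QuadraticMap
open CfsgLib.AutPSL (fixedField mem_fixedField exists_norm_eq semilinear_fixed_span)
open CfsgLib.Classical.Quad (NDPolar)

variable {F : Type*} [Field F] {ι : Type} [Fintype ι] [DecidableEq ι]

/-- `Q` commutes with the entrywise action of `σ`: its coefficients are fixed by `σ`. -/
def Invariant (Q : (ι → F) → F) (σ : F ≃+* F) : Prop :=
  ∀ v : ι → F, Q (fun i => σ (v i)) = σ (Q v)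

/-- The semilinear map `v ↦ g σ(v)`. -/
def semi (g : GL ι F) (σ : F ≃+* F) (v : ι → F) : ι → F :=
  (g : Matrix ι ι F) *ᵥ fun i => σ (v i)

/-- Entrywise action of `σ` on invertible matrices. -/
abbrev mapGL (σ : F ≃+* F) : GL ι F →* GL ι F := Matrix.GeneralLinearGroup.map σ.toRingHom

theorem mapGL_coe (σ : F ≃+* F) (g : GL ι F) :
    ((mapGL σ g : GL ι F) : Matrix ι ι F) = (g : Matrix ι ι F).map σ := rfl

theorem map_mulVec_apply (σ : F ≃+* F) (M : Matrix ι ι F) (v : ι → F) :
    (fun i => σ ((M *ᵥ v) i)) = M.map σ *ᵥ fun i => σ (v i) := by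
  funext i
  exact RingHom.map_mulVec σ.toRingHom M v i

theorem scalar_mulVec (c : Fˣ) (v : ι → F) :
    ((Matrix.GeneralLinearGroup.scalar ι c : GL ι F) : Matrix ι ι F) *ᵥ v = (c : F) • v := by
  funext i
  show (Matrix.diagonal (fun _ => (c : F)) *ᵥ v) i = _
  rw [Matrix.mulVec_diagonal]
  rfl

theorem gl_ext {g h : GL ι F} (H : ∀ v, (g : Matrix ι ι F) *ᵥ v = (h : Matrix ι ι F) *ᵥ v) : g = h :=
  Units.ext (Matrix.toLin'.injective (LinearMap.ext H))

theorem semi_add (g : GL ι F) (σ : F ≃+* F) (u v : ι → F) : semi g σ (u + v) = semi g σ u + semi g σ v := by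
  rw [semi, semi, semi, ← Matrix.mulVec_add]
  congr 1
  funext i
  simp

theorem semi_smul (g : GL ι F) (σ : F ≃+* F) (c : F) (v : ι → F) : semi g σ (c • v) = σ c • semi g σ v := by
  rw [semi, semi, ← Matrix.mulVec_smul]
  congr 1
  funext i
  simp

theorem semi_eq_zero {g : GL ι F} {σ : F ≃+* F} {v : ι → F} (h : semi g σ v = 0) : v = 0 := by
  have h0 := congrArg (((g⁻¹ : GL ι F) : Matrix ι ι F) *ᵥ ·) h
  simp only [semi, Matrix.mulVec_mulVec, Units.inv_mul, Matrix.one_mulVec, Matrix.mulVec_zero] at h0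
  funext i
  exact σ.injective ((congrFun h0 i).trans (map_zero σ).symm)

/-- The linear part of the iterates of `semi g σ`. -/
def iterGL (g : GL ι F) (σ : F ≃+* F) : ℕ → GL ι F
  | 0 => 1
  | k + 1 => g * mapGL σ (iterGL g σ k)

theorem iterate_semi (g : GL ι F) (σ : F ≃+* F) (k : ℕ) (v : ι → F) :
    (semi g σ)^[k] v = (iterGL g σ k : Matrix ι ι F) *ᵥ fun i => (σ ^ k) (v i) := by
  induction k with
  | zero => simp [iterGL]
  | succ k ih =>
    rw [Function.iterate_succ_apply', ih, semi, map_mulVec_apply, iterGL, Units.val_mul,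
      ← Matrix.mulVec_mulVec, pow_succ']
    rfl

theorem iterGL_scalar_mul (g : GL ι F) (σ : F ≃+* F) (x : Fˣ) (k : ℕ) (v : ι → F) :
    (semi (Matrix.GeneralLinearGroup.scalar ι x * g) σ)^[k] v =
      (∏ i ∈ Finset.range k, (σ ^ i) (x : F)) • (semi g σ)^[k] v := by
  induction k with
  | zero => simp
  | succ k ih =>
    have h1 : ∀ w, semi (Matrix.GeneralLinearGroup.scalar ι x * g) σ w = (x : F) • semi g σ w := fun w => by
      rw [semi, semi, Units.val_mul, ← Matrix.mulVec_mulVec, scalar_mulVec]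
    rw [Function.iterate_succ_apply', ih, h1, semi_smul, ← Function.iterate_succ_apply' (semi g σ),
      smul_smul]
    congr 1
    rw [Finset.prod_range_succ', map_prod, pow_zero, mul_comm]
    congr 1
    exact Finset.prod_congr rfl fun i _ => by rw [pow_succ']; rfl

variable [Fintype F] [Nonempty ι]

/-- A semilinear map with scalar `r`-th iterate has a periodic scaling. -/
theorem exists_periodic_scale {σ : F ≃+* F} {r : ℕ} (hr : orderOf σ = r) {g : GL ι F} {c : Fˣ}
    (hc : iterGL g σ r = Matrix.GeneralLinearGroup.scalar ι c) :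
    σ (c : F) = c ∧
      ∃ x : Fˣ, ∀ v, (semi (Matrix.GeneralLinearGroup.scalar ι x * g) σ)^[r] v = v := by
  classical
  have hσr : σ ^ r = 1 := by rw [← hr]; exact pow_orderOf_eq_one σ
  have hiter : ∀ v, (semi g σ)^[r] v = (c : F) • v := fun v => by
    rw [iterate_semi, hc, scalar_mulVec, hσr]
    rfl
  obtain ⟨i₀⟩ := ‹Nonempty ι›
  have hσc : σ (c : F) = c := by
    set e : ι → F := Pi.single i₀ 1
    have h1 : (semi g σ)^[r] (semi g σ e) = semi g σ ((semi g σ)^[r] e) := by
      rw [← Function.iterate_succ_apply, Function.iterate_succ_apply']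
    rw [hiter, hiter, semi_smul] at h1
    have h2 : ((c : F) - σ c) • semi g σ e = 0 := by rw [sub_smul, h1, sub_self]
    rcases smul_eq_zero.mp h2 with h3 | h3
    · exact (sub_eq_zero.mp h3).symm
    · simpa [e] using congrFun (semi_eq_zero h3) i₀
  refine ⟨hσc, ?_⟩
  obtain ⟨x, hx⟩ := exists_norm_eq σ hr (c := (c : F)⁻¹) (by rw [map_inv₀, hσc])
  have hx0 : x ≠ 0 := by
    rintro rfl
    have hr0 : 0 ∈ Finset.range r := by
      haveI : Finite (F ≃+* F) := Finite.of_injective _ DFunLike.coe_injective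
      exact Finset.mem_range.2 (hr ▸ orderOf_pos σ)
    rw [Finset.prod_eq_zero hr0 (by simp)] at hx
    exact inv_ne_zero c.ne_zero hx.symm
  refine ⟨Units.mk0 x hx0, fun v => ?_⟩
  rw [iterGL_scalar_mul, Units.val_mk0, hx, hiter, smul_smul, inv_mul_cancel₀ c.ne_zero, one_smul]

omit [Nonempty ι] in
/-- A periodic semilinear map has a basis of fixed vectors. -/
theorem exists_fixed_matrix {σ : F ≃+* F} {r : ℕ} (hr : orderOf σ = r) {g : GL ι F}
    (hper : ∀ v, (semi g σ)^[r] v = v) :
    ∃ H : GL ι F, g * mapGL σ H = H := by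
  classical
  have hspan := semilinear_fixed_span σ (semi g σ) (semi_add g σ) (semi_smul g σ)
    (fun v => by rw [hr, hper])
  obtain ⟨b, hbS, hbspan, hbli⟩ := exists_linearIndependent F {v | semi g σ v = v}
  let B := Module.Basis.mk hbli (by rw [Subtype.range_coe, hbspan, hspan])
  haveI : Fintype b := FiniteDimensional.fintypeBasisIndex B
  have hbn : Fintype.card b = Fintype.card ι := by
    rw [← Module.finrank_eq_card_basis B, Module.finrank_fintype_fun_eq_card]
  let e : ι ≃ b := Fintype.equivOfCardEq hbn.symm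
  let H : Matrix ι ι F := Matrix.of fun i j => (e j).1 i
  have hH : IsUnit H.det := by
    rw [← Matrix.isUnit_iff_isUnit_det, ← Matrix.linearIndependent_cols_iff_isUnit]
    exact hbli.comp e e.injective
  refine ⟨H.nonsingInvUnit hH, Units.ext (Matrix.ext fun i j => ?_)⟩
  exact congrFun (hbS (e j).2 : semi g σ (e j).1 = (e j).1) i

omit [Nonempty ι] [DecidableEq ι] [Fintype ι] in
/-- Hilbert 90: a multiplier of norm one is a quotient. -/
theorem exists_twist {σ : F ≃+* F} {ν : F}
    (hν : ∀ a : F, (fun b : F => ν * σ b)^[orderOf σ] a = a) : ∃ η : F, η ≠ 0 ∧ ν * σ η = η := by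
  have hsp := semilinear_fixed_span σ (V := F) (fun b : F => ν * σ b) (fun u v => by simp [mul_add])
    (fun a v => by simp [mul_left_comm]) hν
  by_contra hno
  push Not at hno
  have hbot : Submodule.span F {v : F | ν * σ v = v} = ⊥ := Submodule.span_eq_bot.mpr fun v hv => by
    by_contra h0
    exact hno v h0 hv
  rw [hbot] at hsp
  exact bot_ne_top hsp

/-- Coordinates in a subfield read in the field. -/
abbrev liftVec {K : Type*} [Field K] (f : K →+* F) (a : ι → K) : ι → F := fun i => f (a i)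

omit [Nonempty ι] [Fintype F] in
theorem mulVec_liftVec {K : Type*} [Field K] (f : K →+* F) (A : Matrix ι ι K) (a : ι → K) :
    A.map f *ᵥ liftVec f a = liftVec f (A *ᵥ a) := by
  funext i
  exact (RingHom.map_mulVec f A a i).symm

/-- **Descent.** After scaling, a semisimilarity with scalar `r`-th iterate has a frame of fixed vectors on
which the form is a constant times a quadratic form over the fixed field. -/
theorem exists_frame {σ : F ≃+* F} {r : ℕ} (hr : orderOf σ = r) (Q : QuadraticForm F (ι → F))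
    (hQ : Invariant (⇑Q) σ) (hne : ∃ v, Q v ≠ 0) (g : GL ι F) (μ : Fˣ)
    (hg : ∀ v, Q ((g : Matrix ι ι F) *ᵥ v) = (μ : F) * Q v) (c : Fˣ)
    (hc : iterGL g σ r = Matrix.GeneralLinearGroup.scalar ι c) :
    ∃ (x : Fˣ) (H : GL ι F) (η : Fˣ) (Q₀ : QuadraticForm ↥(fixedField σ) (ι → ↥(fixedField σ))),
      Matrix.GeneralLinearGroup.scalar ι x * g * mapGL σ H = H ∧
      (∀ a, Q ((H : Matrix ι ι F) *ᵥ liftVec (fixedField σ).subtype a) = (η : F) * (Q₀ a : F)) ∧
      (NDPolar Q → NDPolar Q₀) := by
  classical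
  obtain ⟨-, x, hper⟩ := exists_periodic_scale hr hc
  set g' := Matrix.GeneralLinearGroup.scalar ι x * g with hg'
  obtain ⟨H, hH⟩ := exists_fixed_matrix hr hper
  let ν : F := (x : F) * x * μ
  have hform : ∀ v, Q (semi g' σ v) = ν * σ (Q v) := fun v => by
    rw [semi, hg', Units.val_mul, ← Matrix.mulVec_mulVec, scalar_mulVec, QuadraticMap.map_smul, hg, hQ,
      smul_eq_mul]
    ring
  obtain ⟨η, hη0, hη⟩ : ∃ η : F, η ≠ 0 ∧ ν * σ η = η := by
    obtain ⟨v₀, hv₀⟩ := hne
    refine exists_twist fun a => ?_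
    have hk : ∀ k (v : ι → F) (b : F), (fun b : F => ν * σ b)^[k] (b * Q v) =
        (σ ^ k) b * Q ((semi g' σ)^[k] v) := by
      intro k v b
      induction k with
      | zero => simp
      | succ k ih =>
        rw [Function.iterate_succ_apply', ih, Function.iterate_succ_apply', hform, map_mul, pow_succ']
        show ν * (σ ((σ ^ k) b) * σ _) = σ ((σ ^ k) b) * _
        ring
    have := hk r v₀ (a / Q v₀)
    rw [hper, div_mul_cancel₀ a hv₀, show σ ^ r = 1 by rw [← hr]; exact pow_orderOf_eq_one σ] at this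
    rw [hr, this]
    exact div_mul_cancel₀ a hv₀
  have hν0 : ν ≠ 0 := fun h => hη0 (by rw [← hη, h, zero_mul])
  let K := fixedField σ
  let L : (ι → ↥K) → ι → F := fun a => (H : Matrix ι ι F) *ᵥ liftVec K.subtype a
  have hLσ : ∀ a, semi g' σ (L a) = L a := fun a => by
    have h1 : (fun i => σ (liftVec K.subtype a i)) = liftVec K.subtype a :=
      funext fun i => (mem_fixedField σ).mp (a i).2
    simp only [semi, L]
    rw [map_mulVec_apply, h1, Matrix.mulVec_mulVec, ← mapGL_coe, ← Units.val_mul, hH]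
  have hmem : ∀ a, η⁻¹ * Q (L a) ∈ K := fun a => by
    rw [mem_fixedField, map_mul, map_inv₀]
    have h1 := hform (L a)
    rw [hLσ] at h1
    have : σ η ≠ 0 := by simpa using hη0
    conv_rhs => rw [h1, ← hη]
    field_simp
  have hLadd : ∀ a b, L (a + b) = L a + L b := fun a b => by
    simp only [L, ← Matrix.mulVec_add]
    congr 1
  have hLsmul : ∀ (t : ↥K) a, L (t • a) = (t : F) • L a := fun t a => by
    simp only [L, ← Matrix.mulVec_smul]
    congr 1
  have hpol : ∀ a b, ((polar (fun a => (⟨η⁻¹ * Q (L a), hmem a⟩ : ↥K)) a b : ↥K) : F) =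
      η⁻¹ * polar (⇑Q) (L a) (L b) := fun a b => by
    simp only [polar, hLadd]
    push_cast
    ring
  let Q₀ : QuadraticForm ↥K (ι → ↥K) :=
    QuadraticMap.ofPolar (fun a => ⟨η⁻¹ * Q (L a), hmem a⟩)
      (fun t a => Subtype.ext (by
        show η⁻¹ * Q (L (t • a)) = (t : F) * t * (η⁻¹ * Q (L a))
        rw [hLsmul, QuadraticMap.map_smul, smul_eq_mul]
        ring))
      (fun a a' b => Subtype.ext (by
        push_cast
        rw [hpol, hpol, hpol, hLadd, QuadraticMap.polar_add_left]
        ring))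
      (fun t a b => Subtype.ext (by
        show _ = (t : F) * _
        rw [hpol, hpol, hLsmul, QuadraticMap.polar_smul_left, smul_eq_mul]
        ring))
  refine ⟨x, H, Units.mk0 η hη0, Q₀, hH, fun a => ?_, fun hnd a ha => ?_⟩
  · show Q (L a) = η * (η⁻¹ * Q (L a))
    rw [mul_inv_cancel_left₀ hη0]
  · have hz : ∀ b, polar (⇑Q) (L a) (L b) = 0 := fun b => by
      have h1 := hpol a b
      rw [show polar (fun a => (⟨η⁻¹ * Q (L a), hmem a⟩ : ↥K)) a b = polar (⇑Q₀) a b from rfl, ha b,
        ZeroMemClass.coe_zero] at h1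
      exact (mul_eq_zero.mp h1.symm).resolve_left (inv_ne_zero hη0)
    have hLa : L a = 0 := hnd _ fun w => by
      obtain ⟨u, rfl⟩ : ∃ u, (H : Matrix ι ι F) *ᵥ u = w :=
        ⟨((H⁻¹ : GL ι F) : Matrix ι ι F) *ᵥ w, by
          rw [Matrix.mulVec_mulVec, Units.mul_inv, Matrix.one_mulVec]⟩
      have hu : (H : Matrix ι ι F) *ᵥ u = ∑ i, u i • L (Pi.single i 1) := by
        conv_lhs => rw [pi_eq_sum_univ' u]
        rw [Matrix.mulVec_sum]
        refine Finset.sum_congr rfl fun i _ => ?_
        rw [← Matrix.mulVec_smul]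
        congr 1
        funext j
        by_cases hij : j = i
        · subst hij; simp [liftVec]
        · simp [liftVec, hij]
      rw [hu, ← QuadraticMap.polarBilin_apply_apply, map_sum]
      refine Finset.sum_eq_zero fun i _ => ?_
      rw [map_smul, QuadraticMap.polarBilin_apply_apply, hz, smul_zero]
    have h2 := congrArg (((H⁻¹ : GL ι F) : Matrix ι ι F) *ᵥ ·) hLa
    simp only [L, Matrix.mulVec_mulVec, Units.inv_mul, Matrix.one_mulVec, Matrix.mulVec_zero] at h2
    funext i
    exact Subtype.ext (congrFun h2 i)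

omit [Fintype F] [Nonempty ι] in
/-- Quadratic forms on coordinate space agreeing on unit vectors and their sums in pairs are equal. -/
theorem quad_ext {Q Q' : QuadraticForm F (ι → F)} (h1 : ∀ i, Q (Pi.single i 1) = Q' (Pi.single i 1))
    (h2 : ∀ i j, Q (Pi.single i 1 + Pi.single j 1) = Q' (Pi.single i 1 + Pi.single j 1)) : Q = Q' := by
  classical
  have hb : QuadraticMap.polarBilin Q = QuadraticMap.polarBilin Q' := by
    refine (Pi.basisFun F ι).ext fun i => (Pi.basisFun F ι).ext fun j => ?_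
    simp only [QuadraticMap.polarBilin_apply_apply, Pi.basisFun_apply, polar, h1, h2]
  ext v
  rw [pi_eq_sum_univ' v]
  induction (Finset.univ : Finset ι) using Finset.induction_on with
  | empty => simp
  | insert i s hi ih =>
    rw [Finset.sum_insert hi, QuadraticMap.map_add (⇑Q), QuadraticMap.map_add (⇑Q'), ih,
      QuadraticMap.map_smul, QuadraticMap.map_smul, h1, ← QuadraticMap.polarBilin_apply_apply,
      ← QuadraticMap.polarBilin_apply_apply, hb]

omit [Fintype F] [Nonempty ι] in
/-- Forms agreeing on the points over a subfield are equal. -/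
theorem quad_ext_base {K : Type*} [Field K] (f : K →+* F) {Q Q' : QuadraticForm F (ι → F)}
    (h : ∀ a : ι → K, Q (liftVec f a) = Q' (liftVec f a)) : Q = Q' := by
  have h1 : ∀ i, liftVec f (Pi.single i 1) = (Pi.single i 1 : ι → F) := fun i => funext fun j => by
    by_cases hij : j = i
    · subst hij; simp [liftVec]
    · simp [liftVec, hij]
  refine quad_ext (fun i => by rw [← h1]; exact h _) fun i j => ?_
  have : (Pi.single i 1 + Pi.single j 1 : ι → F) = liftVec f (Pi.single i 1 + Pi.single j 1) := by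
    rw [← h1, ← h1]
    funext k
    simp [liftVec]
  rw [this]
  exact h _

omit [Fintype F] [Nonempty ι] in
/-- A linear map over a subfield multiplying the descended form by a constant gives one over the field. -/
theorem mulVec_eq_of_base {K : Type*} [Field K] (f : K →+* F) (Q : QuadraticForm F (ι → F))
    (M : Matrix ι ι F) (d : F) (h : ∀ a : ι → K, Q (M *ᵥ liftVec f a) = d * Q (liftVec f a))
    (v : ι → F) : Q (M *ᵥ v) = d * Q v := by
  have h2 : Q.comp (Matrix.mulVecLin M) = d • Q := quad_ext_base f fun a => by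
    simpa using h a
  simpa using congrArg (fun q : QuadraticForm F (ι → F) => q v) h2

omit [Fintype F] [Nonempty ι] in
/-- Base change of a similarity. -/
theorem similar_map {K : Type*} [Field K] (f : K →+* F) (Q : QuadraticForm F (ι → F))
    (Qb : (ι → K) → K) (hQb : ∀ a, Q (liftVec f a) = f (Qb a)) (A : GL ι K) (c : Kˣ)
    (hA : ∀ a, Qb ((A : Matrix ι ι K) *ᵥ a) = (c : K) * Qb a) (v : ι → F) :
    Q ((Matrix.GeneralLinearGroup.map f A : Matrix ι ι F) *ᵥ v) = f c * Q v :=
  mulVec_eq_of_base f Q _ _ (fun a => by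
    show Q ((A : Matrix ι ι K).map f *ᵥ _) = _
    rw [mulVec_liftVec, hQb, hQb, hA, map_mul]) v

omit [Nonempty ι] in
/-- **Conjugating to the standard field automorphism.** If the descended form is similar to the base form,
the semisimilarity is conjugate to the field automorphism by a similarity. -/
theorem exists_conj_similarity {σ : F ≃+* F} (Q : QuadraticForm F (ι → F))
    {g H : GL ι F} {η : Fˣ} {Q₀ : QuadraticForm ↥(fixedField σ) (ι → ↥(fixedField σ))}
    (hH : g * mapGL σ H = H)
    (hQ₀ : ∀ a, Q ((H : Matrix ι ι F) *ᵥ liftVec (fixedField σ).subtype a) = (η : F) * (Q₀ a : F))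
    (Qb : (ι → ↥(fixedField σ)) → ↥(fixedField σ))
    (hQb : ∀ a, Q (liftVec (fixedField σ).subtype a) = (Qb a : F))
    (P : GL ι ↥(fixedField σ)) (l : (↥(fixedField σ))ˣ)
    (hP : ∀ a, Q₀ ((P : Matrix ι ι ↥(fixedField σ)) *ᵥ a) = (l : ↥(fixedField σ)) * Qb a) :
    ∃ h : GL ι F, (∃ d : Fˣ, ∀ v, Q ((h : Matrix ι ι F) *ᵥ v) = (d : F) * Q v) ∧ g * mapGL σ h = h := by
  refine ⟨H * Matrix.GeneralLinearGroup.map (fixedField σ).subtype P,
    ⟨η * Units.map (fixedField σ).subtype.toMonoidHom l, mulVec_eq_of_base (fixedField σ).subtype Q _ _ fun a => ?_⟩, ?_⟩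
  · rw [Units.val_mul, ← Matrix.mulVec_mulVec]
    show Q ((H : Matrix ι ι F) *ᵥ ((P : Matrix ι ι ↥(fixedField σ)).map (fixedField σ).subtype *ᵥ _)) = _
    rw [mulVec_liftVec, hQ₀, hP, hQb]
    push_cast
    show (η : F) * ((l : F) * _) = (η : F) * (l : F) * _
    ring
  · have hfix : mapGL σ (Matrix.GeneralLinearGroup.map (fixedField σ).subtype P) =
        Matrix.GeneralLinearGroup.map (fixedField σ).subtype P := by
      refine Units.ext (Matrix.ext fun i j => ?_)
      exact (mem_fixedField σ).mp ((P : Matrix ι ι ↥(fixedField σ)) i j).2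
    rw [map_mul, hfix, ← mul_assoc, hH]

omit [Fintype F] in
/-- A matrix fixed by `σ` up to a scalar is a scalar times a matrix over the fixed field. -/
theorem exists_scalar_base {K : Type*} [Field K] (f : K →+* F) {σ : F ≃+* F}
    (hf' : ∀ x, σ x = x → ∃ a, f a = x) {g : GL ι F} {u : Fˣ}
    (h : mapGL σ g = Matrix.GeneralLinearGroup.scalar ι u * g) :
    ∃ (e : Fˣ) (A : GL ι K),
      g = Matrix.GeneralLinearGroup.scalar ι e * Matrix.GeneralLinearGroup.map f A := by
  have hent : ∀ i j, σ (g.1 i j) = (u : F) * g.1 i j := by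
    intro i j
    have h1 : g.1.map σ.toRingHom = Matrix.scalar ι (u : F) * g.1 := congrArg Units.val h
    have h2 := congrFun (congrFun h1 i) j
    rw [Matrix.scalar_apply, Matrix.diagonal_mul, Matrix.map_apply] at h2
    exact h2
  obtain ⟨i₀, j₀, h0⟩ : ∃ i j, g.1 i j ≠ 0 := by
    by_contra hcon
    simp only [not_exists, not_not] at hcon
    obtain ⟨i⟩ := ‹Nonempty ι›
    have := congrFun (congrFun g.inv_mul i) i
    simp [Matrix.mul_apply, hcon] at this
  set e := g.1 i₀ j₀ with he
  have hfix : ∀ i j, σ (e⁻¹ * g.1 i j) = e⁻¹ * g.1 i j := fun i j => by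
    rw [map_mul, map_inv₀, hent, hent, ← he]
    field_simp
  choose a ha using fun i j => hf' _ (hfix i j)
  have hgA : g.1 = Matrix.scalar ι e * (Matrix.of a).map f := by
    ext i j
    rw [Matrix.scalar_apply, Matrix.diagonal_mul, Matrix.map_apply, Matrix.of_apply, ha,
      mul_inv_cancel_left₀ h0]
  have hdet : IsUnit (Matrix.of a).det := by
    refine isUnit_iff_ne_zero.mpr fun hz => ?_
    have h3 := congrArg Matrix.det hgA
    rw [Matrix.det_mul, show (Matrix.of a).map f = f.mapMatrix (Matrix.of a) from rfl, ← RingHom.map_det, hz,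
      map_zero, mul_zero] at h3
    exact g.det.ne_zero h3
  exact ⟨Units.mk0 e h0, (Matrix.of a).nonsingInvUnit hdet, Units.ext hgA⟩

omit [Fintype F] [Nonempty ι] in
/-- The base matrix of a similarity is a similarity of the base form. -/
theorem similar_of_map {K : Type*} [Field K] (f : K →+* F) (Q : QuadraticForm F (ι → F))
    (Qb : (ι → K) → K) (hQb : ∀ a, Q (liftVec f a) = f (Qb a)) (hne : ∃ a, Qb a ≠ 0) (A : GL ι K)
    (e c : Fˣ) (hg : ∀ v, Q ((Matrix.GeneralLinearGroup.scalar ι e *
      Matrix.GeneralLinearGroup.map f A : GL ι F) *ᵥ v) = (c : F) * Q v) :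
    ∃ c₀ : Kˣ, f c₀ * (e * e) = c ∧ ∀ a, Qb ((A : Matrix ι ι K) *ᵥ a) = (c₀ : K) * Qb a := by
  obtain ⟨a₀, ha₀⟩ := hne
  have h1 : ∀ a, (e : F) * e * f (Qb ((A : Matrix ι ι K) *ᵥ a)) = (c : F) * f (Qb a) := fun a => by
    have h := hg (liftVec f a)
    rw [Units.val_mul, ← Matrix.mulVec_mulVec,
      show ((Matrix.GeneralLinearGroup.map f A : GL ι F) : Matrix ι ι F) = (A : Matrix ι ι K).map f from rfl,
      mulVec_liftVec, scalar_mulVec, QuadraticMap.map_smul, hQb, hQb, smul_eq_mul] at h
    exact h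
  set c₀ : K := Qb ((A : Matrix ι ι K) *ᵥ a₀) / Qb a₀ with hc₀
  have hfa : f (Qb a₀) ≠ 0 := by simpa using ha₀
  have hc₀' : f c₀ * ((e : F) * e) = c := by
    rw [hc₀, map_div₀, div_mul_eq_mul_div, mul_comm, h1, mul_div_assoc, div_self hfa, mul_one]
  have hc₀0 : c₀ ≠ 0 := fun hz => c.ne_zero (by rw [← hc₀', hz, map_zero, zero_mul])
  refine ⟨Units.mk0 c₀ hc₀0, hc₀', fun a => f.injective ?_⟩
  rw [Units.val_mk0, map_mul]
  refine mul_left_cancel₀ (mul_ne_zero e.ne_zero e.ne_zero) ?_
  rw [h1, ← hc₀']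
  ring

end CfsgLib.Descent
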