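import Cfsg.Agent.Lib.Descent.POmegaField
import Cfsg.Agent.Lib.OrthCrit.Forms
import Cfsg.Agent.Lib.AutPOmega.Transfer
import Cfsg.Agent.Lib.AutPSL.SimGroup
import Cfsg.Agent.Lib.PGOQuot.Quotients
import Cfsg.Agent.Lib.RootCount.QuadType
import Cfsg.Agent.Lib.AutPSL.Split

/-!
Field automorphisms of `Ω_{2m+1}(F)`, `F` of odd order: coset conjugacy, centralisers and class splitting.
-/

set_option autoImplicit false
set_option linter.unusedSectionVars false
set_option linter.style.haveILetI false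

namespace CfsgLib.Descent

open Matrix QuadraticMap Cfsg
open CfsgLib.OrthCrit (oddForm oddForm_apply ndPolar_oddForm)
open CfsgLib.PGOQuot (simG simAut conjOmega scal isoToSim)
open CfsgLib.OrthSpinor (theta detHom reflection)
open CfsgLib.AutPSL (fixedField mem_fixedField)

variable {F : Type*} [Field F] {m : ℕ}

theorem odd_two_ne_zero [Fintype F] (hodd : Odd (Fintype.card F)) : (2 : F) ≠ 0 :=
  CfsgLib.Classical.Quad.two_ne_zero_iff_odd.2 (by rwa [Nat.card_eq_fintype_card])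

theorem odd_card_index (m : ℕ) : Fintype.card (Unit ⊕ (Fin m ⊕ Fin m)) = 2 * m + 1 := by
  simp only [Fintype.card_sum, Fintype.card_fin, Fintype.card_unit]
  omega

theorem oddForm_liftVec {K : Type*} [Field K] (f : K →+* F) (a : Unit ⊕ (Fin m ⊕ Fin m) → K) :
    oddForm m F (liftVec f a) = f (oddForm m K a) := by
  simp [Cfsg.quadFormOdd, liftVec]

theorem invAut_oddForm : invAut (oddForm m F) = ⊤ :=
  eq_top_iff.mpr fun σ _ v => oddForm_liftVec σ.toRingHom v

theorem odd_hker [Fintype F] (h2 : (2 : F) ≠ 0) (hm : 2 ≤ m) (g : ↥(simG (oddForm m F))) (hg : simAut g = 1) :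
    ∃ c : Fˣ, (g : GL (Unit ⊕ (Fin m ⊕ Fin m)) F) = scal c :=
  CfsgLib.PGOQuot.exists_scal_of_simAut_eq_one h2 (ndPolar_oddForm h2 m) (by rw [odd_card_index]; omega) hg

theorem oddForm_single : oddForm m F (Pi.single (Sum.inl ()) 1) = 1 := by
  simp [Cfsg.quadFormOdd]

theorem odd_gammaPOmega_top [Fintype F] (hodd : Odd (Fintype.card F)) (hm : 3 ≤ m) :
    gammaPOmega F ⇑(oddForm m F) = ⊤ :=
  CfsgLib.AutPOmega.gammaPOmega_odd_eq_top (by rwa [Nat.card_eq_fintype_card]) hm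

theorem odd_fieldAut_injective [Fintype F] (h2 : (2 : F) ≠ 0) (hm : 2 ≤ m) :
    Function.Injective (fieldAut : ↥(invAut (oddForm m F)) →* MulAut (POmega F ⇑(oddForm m F))) := by
  classical
  refine fieldAut_injective (odd_hker h2 hm) fun a ha => ?_
  let d : Unit ⊕ (Fin m ⊕ Fin m) → F := Sum.elim (fun _ => 1)
    (Sum.elim (fun i => if (i : ℕ) = 0 then a else 1) (fun i => if (i : ℕ) = 0 then a⁻¹ else 1))
  have hd : ∀ i, d i ≠ 0 := by
    rintro (i | i | i)
    · exact one_ne_zero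
    all_goals show (if (i : ℕ) = 0 then _ else (1 : F)) ≠ 0; split_ifs <;> simp [ha]
  let D : GL (Unit ⊕ (Fin m ⊕ Fin m)) F := Matrix.GeneralLinearGroup.mkOfDetNeZero (Matrix.diagonal d)
    (by rw [Matrix.det_diagonal]; exact Finset.prod_ne_zero_iff.mpr fun i _ => hd i)
  refine ⟨⟨D, 1, fun v => ?_⟩, ⟨Sum.inl (), Sum.inl (), ?_⟩,
    Sum.inr (Sum.inl ⟨0, by omega⟩), Sum.inr (Sum.inl ⟨0, by omega⟩), ?_⟩
  · show oddForm m F (Matrix.diagonal d *ᵥ v) = _
    rw [Units.val_one, one_mul, oddForm_apply, oddForm_apply, Cfsg.quadFormOdd, Cfsg.quadFormOdd]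
    simp only [Matrix.mulVec_diagonal]
    congr 1
    · simp [d]
    · refine Finset.sum_congr rfl fun i _ => ?_
      show (if (i : ℕ) = 0 then a else 1) * _ * ((if (i : ℕ) = 0 then a⁻¹ else 1) * _) = _
      split_ifs
      · field_simp
      · rw [one_mul, one_mul]
  · show Matrix.diagonal d _ _ = _
    simp [d]
  · show Matrix.diagonal d _ _ = _
    simp [d]

abbrev oddInndiag (m : ℕ) (F : Type*) [Field F] : Subgroup (MulAut (POmega F ⇑(oddForm m F))) :=
  Cfsg.inndiagPOmegaOdd m F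

theorem inndiag_odd_eq (m : ℕ) (F : Type*) [Field F] :
    oddInndiag m F = (⊤ : Subgroup ↥(simG (oddForm m F))).map simAut :=
  CfsgLib.PGOQuot.autSubgroupOf_eq (Q := oddForm m F) _ ⊤ fun _ =>
    ⟨fun ⟨g, hg, h⟩ => ⟨⟨g, hg⟩, trivial, h⟩, fun ⟨g, _, h⟩ => ⟨g, g.2, h⟩⟩

theorem odd_normal_form [Fintype F] (hodd : Odd (Fintype.card F)) (hm : 3 ≤ m)
    {x : MulAut (POmega F ⇑(oddForm m F))} (hx : IsFieldAutClassPOmega ⇑(oddForm m F) x) {r : ℕ}
    (hxr : orderOf x = r) :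
    ∃ (g : ↥(simG (oddForm m F))) (σ : ↥(invAut (oddForm m F))), orderOf (σ : F ≃+* F) = r ∧
      x = simAut g * fieldAut σ * (simAut g)⁻¹ :=
  normal_form invAut_oddForm (odd_gammaPOmega_top hodd hm)
    (odd_fieldAut_injective (odd_two_ne_zero hodd) (by omega)) hx hxr

/-- Elements of order `r` in the coset of a field automorphism of `Ω_{2m+1}(F)`. -/
theorem odd_coset_conj [Fintype F] (hodd : Odd (Fintype.card F)) (hm : 2 ≤ m)
    {σ : ↥(invAut (oddForm m F))} {r : ℕ} (hr : orderOf (σ : F ≃+* F) = r) (g : ↥(simG (oddForm m F)))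
    (hy : (simAut g * fieldAut σ : MulAut (POmega F ⇑(oddForm m F))) ^ r = 1) :
    ∃ h : ↥(simG (oddForm m F)), (simAut g * fieldAut σ : MulAut (POmega F ⇑(oddForm m F))) =
      simAut h * fieldAut σ * (simAut h)⁻¹ := by
  classical
  have h2 := odd_two_ne_zero hodd
  set K := fixedField (σ : F ≃+* F)
  haveI : Fintype ↥K := Fintype.ofFinite _
  have h2K : (2 : ↥K) ≠ 0 := fun h => h2 (by
    have := congrArg K.subtype h
    rwa [map_ofNat, map_zero] at this)
  refine coset_conj (odd_hker h2 hm) ⟨_, by rw [oddForm_single (F := F)]; exact one_ne_zero⟩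
    (ndPolar_oddForm h2 m) hr ⇑(oddForm m ↥K) (oddForm_liftVec K.subtype) (fun Q₀ hQ₀ => ?_) g hy
  obtain ⟨d, hd, E, hE⟩ := CfsgLib.RootCount.classify_odd (V := Unit ⊕ (Fin m ⊕ Fin m) → ↥K) h2K Q₀ hQ₀
    (m := m) (by rw [Module.finrank_fintype_fun_eq_card, odd_card_index])
  have hdet : IsUnit (LinearMap.toMatrix' E.toLinearMap).det := by
    rw [LinearMap.det_toMatrix']
    exact E.isUnit_det'
  refine ⟨(LinearMap.toMatrix' E.toLinearMap).nonsingInvUnit hdet, Units.mk0 d hd, fun a => ?_⟩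
  show Q₀ (LinearMap.toMatrix' E.toLinearMap *ᵥ a) = _
  rw [LinearMap.toMatrix'_mulVec, Units.val_mk0]
  exact hE a

/-! ### Multiplier and the character with kernel the inner automorphisms -/

/-- The multiplier of a similarity of the odd form. -/
noncomputable def oddMu : ↥(simG (oddForm m F)) →* Fˣ :=
  MonoidHom.mk' (fun g => g.2.choose) fun a b => by
    have key : ∀ (g : ↥(simG (oddForm m F))) (c : Fˣ),
        (∀ v, oddForm m F (((g : GL (Unit ⊕ (Fin m ⊕ Fin m)) F) : Matrix _ _ F) *ᵥ v) = (c : F) * oddForm m F v) →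
          g.2.choose = c := fun g c hc => Units.ext (by
      have h := (g.2.choose_spec (Pi.single (Sum.inl ()) 1)).symm.trans (hc _)
      rwa [oddForm_single, mul_one, mul_one] at h)
    refine key _ _ fun v => ?_
    rw [Subgroup.coe_mul, Units.val_mul, ← Matrix.mulVec_mulVec, Units.val_mul, mul_assoc]
    exact (a.2.choose_spec _).trans (congrArg _ (b.2.choose_spec v))

theorem oddMu_spec (g : ↥(simG (oddForm m F))) (v : Unit ⊕ (Fin m ⊕ Fin m) → F) :
    oddForm m F (((g : GL (Unit ⊕ (Fin m ⊕ Fin m)) F) : Matrix _ _ F) *ᵥ v) = (oddMu g : F) * oddForm m F v :=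
  g.2.choose_spec v

theorem oddMu_eq {g : ↥(simG (oddForm m F))} {c : Fˣ}
    (hc : ∀ v, oddForm m F (((g : GL (Unit ⊕ (Fin m ⊕ Fin m)) F) : Matrix _ _ F) *ᵥ v) = (c : F) * oddForm m F v) : oddMu g = c :=
  Units.ext (by
    have h := (oddMu_spec g (Pi.single (Sum.inl ()) 1)).symm.trans (hc _)
    rwa [oddForm_single, mul_one, mul_one] at h)

theorem det_sq_odd (h2 : (2 : F) ≠ 0) (g : ↥(simG (oddForm m F))) :
    Matrix.GeneralLinearGroup.det (g : GL (Unit ⊕ (Fin m ⊕ Fin m)) F) ^ 2 = oddMu g ^ (2 * m + 1) := by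
  have hM : (LinearMap.BilinForm.toMatrix' (QuadraticMap.polarBilin (oddForm m F))).det ≠ 0 := by
    rw [← Matrix.nondegenerate_iff_det_ne_zero, LinearMap.BilinForm.nondegenerate_toMatrix'_iff]
    exact CfsgLib.Orth.ndPolar_iff.mp (ndPolar_oddForm h2 m)
  have hc : ((g : GL (Unit ⊕ (Fin m ⊕ Fin m)) F) : Matrix _ _ F)ᵀ *
      LinearMap.BilinForm.toMatrix' (QuadraticMap.polarBilin (oddForm m F)) * ((g : GL (Unit ⊕ (Fin m ⊕ Fin m)) F) : Matrix _ _ F) =
      (oddMu g : F) • LinearMap.BilinForm.toMatrix' (QuadraticMap.polarBilin (oddForm m F)) := by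
    rw [LinearMap.BilinForm.mul_toMatrix'_mul, ← map_smul]
    refine congrArg _ (LinearMap.ext₂ fun u v => ?_)
    simp only [LinearMap.BilinForm.comp_apply, LinearMap.smul_apply, QuadraticMap.polarBilin_apply_apply,
      Matrix.toLin'_apply, Matrix.transpose_transpose, QuadraticMap.polar, ← Matrix.mulVec_add, oddMu_spec,
      smul_eq_mul]
    ring
  rw [CfsgLib.AutPSL.det_sq_of_mem hM hc, odd_card_index]

/-- The scalar part of a similarity of the odd form: its square is the multiplier. -/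
noncomputable def oddSgn : ↥(simG (oddForm m F)) →* Fˣ :=
  (Matrix.GeneralLinearGroup.det.comp (simG (oddForm m F)).subtype) * (((powMonoidHom m).comp oddMu)⁻¹)

theorem oddSgn_apply (g : ↥(simG (oddForm m F))) :
    oddSgn g = Matrix.GeneralLinearGroup.det (g : GL (Unit ⊕ (Fin m ⊕ Fin m)) F) * (oddMu g ^ m)⁻¹ := rfl

theorem oddSgn_sq (h2 : (2 : F) ≠ 0) (g : ↥(simG (oddForm m F))) : oddSgn g * oddSgn g = oddMu g := by
  have h := det_sq_odd h2 g
  rw [_root_.sq] at h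
  rw [oddSgn_apply, mul_mul_mul_comm, h, ← _root_.mul_inv_rev, ← pow_add, ← two_mul, pow_succ',
    mul_inv_cancel_right]

theorem soPart_mem (h2 : (2 : F) ≠ 0) (g : ↥(simG (oddForm m F))) :
    (scal (oddSgn g))⁻¹ * (g : GL (Unit ⊕ (Fin m ⊕ Fin m)) F) ∈ isometryGroup F ⇑(oddForm m F) := by
  intro u _
  show oddForm m F (((scal (oddSgn g))⁻¹ * (g : GL (Unit ⊕ (Fin m ⊕ Fin m)) F) : GL (Unit ⊕ (Fin m ⊕ Fin m)) F).1 *ᵥ u) = oddForm m F u
  rw [← map_inv, Units.val_mul, ← Matrix.mulVec_mulVec, CfsgLib.PGOQuot.scal_mulVec, QuadraticMap.map_smul,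
    oddMu_spec, smul_eq_mul, ← oddSgn_sq h2 g, Units.val_mul, Units.val_inv_eq_inv_val]
  field_simp

/-- The special isometry attached to a similarity of the odd form. -/
noncomputable def soPart (h2 : (2 : F) ≠ 0) :
    ↥(simG (oddForm m F)) →* ↥(isometryGroup F ⇑(oddForm m F)) :=
  MonoidHom.mk' (fun g => ⟨_, soPart_mem h2 g⟩) fun a b => Subtype.ext (by
    show (scal (oddSgn (a * b)))⁻¹ * ((a : GL (Unit ⊕ (Fin m ⊕ Fin m)) F) * (b : GL (Unit ⊕ (Fin m ⊕ Fin m)) F)) =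
      (scal (oddSgn a))⁻¹ * (a : GL (Unit ⊕ (Fin m ⊕ Fin m)) F) * ((scal (oddSgn b))⁻¹ * (b : GL (Unit ⊕ (Fin m ⊕ Fin m)) F))
    rw [map_mul oddSgn, ← map_inv scal, ← map_inv scal, ← map_inv scal, mul_inv, map_mul scal, mul_assoc, mul_assoc, ← mul_assoc (scal (oddSgn b)⁻¹), CfsgLib.PGOQuot.scal_comm (oddSgn b)⁻¹ (a : GL (Unit ⊕ (Fin m ⊕ Fin m)) F),
      mul_assoc])

theorem soPart_coe (h2 : (2 : F) ≠ 0) (g : ↥(simG (oddForm m F))) :
    ((soPart h2 g : ↥(isometryGroup F ⇑(oddForm m F))) : GL (Unit ⊕ (Fin m ⊕ Fin m)) F) = (scal (oddSgn g))⁻¹ * (g : GL (Unit ⊕ (Fin m ⊕ Fin m)) F) := rfl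

theorem det_scal {ι : Type} [Fintype ι] [DecidableEq ι] (c : Fˣ) :
    Matrix.GeneralLinearGroup.det (scal c : GL ι F) = c ^ Fintype.card ι := by
  refine Units.ext ?_
  show Matrix.det (Matrix.scalar ι (c : F)) = _
  rw [Matrix.scalar_apply, Matrix.det_diagonal, Finset.prod_const, Finset.card_univ, Units.val_pow_eq_pow_val]

theorem detHom_soPart (h2 : (2 : F) ≠ 0) (g : ↥(simG (oddForm m F))) : detHom (soPart h2 g) = 1 := by
  show Matrix.GeneralLinearGroup.det ((soPart h2 g : ↥(isometryGroup F ⇑(oddForm m F))) : GL (Unit ⊕ (Fin m ⊕ Fin m)) F) = 1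
  rw [soPart_coe, map_mul, map_inv, det_scal, odd_card_index, pow_succ, pow_mul, _root_.sq, oddSgn_sq h2 g,
    inv_mul_eq_one, oddSgn_apply, mul_comm (Matrix.GeneralLinearGroup.det _), mul_inv_cancel_left]

/-- The scalars inside the similarities. -/
def oddScal (c : Fˣ) : ↥(simG (oddForm m F)) := ⟨scal c, CfsgLib.PGOQuot.scal_mem_simG c⟩

theorem soPart_oddScal (h2 : (2 : F) ≠ 0) (c : Fˣ) : soPart h2 (oddScal (m := m) c) = 1 := by
  have hmu : oddMu (oddScal (m := m) c) = c * c := oddMu_eq fun v => by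
    show oddForm m F ((scal c : GL (Unit ⊕ (Fin m ⊕ Fin m)) F).1 *ᵥ v) = _
    rw [CfsgLib.PGOQuot.scal_mulVec, QuadraticMap.map_smul, smul_eq_mul, Units.val_mul]
  refine Subtype.ext ?_
  have hs : oddSgn (oddScal (m := m) c) = c := by
    rw [oddSgn_apply, hmu]
    show Matrix.GeneralLinearGroup.det (scal c : GL (Unit ⊕ (Fin m ⊕ Fin m)) F) * _ = c
    rw [det_scal, odd_card_index, pow_succ, pow_mul, _root_.sq, mul_inv_eq_iff_eq_mul, mul_comm]
  rw [soPart_coe, hs]
  exact inv_mul_cancel _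

theorem soPart_iso (h2 : (2 : F) ≠ 0) {o : ↥(isometryGroup F ⇑(oddForm m F))} (hd : detHom o = 1) :
    soPart h2 (isoToSim o) = o := by
  have hmu : oddMu (isoToSim o) = 1 := oddMu_eq fun v => by rw [Units.val_one, one_mul]; exact o.2 v v
  refine Subtype.ext ?_
  have hs : oddSgn (isoToSim o) = 1 := by
    rw [oddSgn_apply, hmu, one_pow, inv_one, mul_one]
    exact hd
  rw [soPart_coe, hs, map_one, inv_one, one_mul, CfsgLib.PGOQuot.isoToSim_coe]

theorem simAut_soPart [Fintype F] (h2 : (2 : F) ≠ 0) (g : ↥(simG (oddForm m F))) :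
    simAut (isoToSim (soPart h2 g)) = simAut g := by
  have h : isoToSim (soPart h2 g) = oddScal (m := m) (oddSgn g)⁻¹ * g :=
    Subtype.ext (show (scal (oddSgn g))⁻¹ * (g : GL (Unit ⊕ (Fin m ⊕ Fin m)) F) = scal (oddSgn g)⁻¹ * _ by rw [map_inv])
  rw [h, map_mul, show simAut (oddScal (m := m) (oddSgn g)⁻¹) = 1 from simAut_scal _, one_mul]

variable [Fintype F]

/-- The spinor norm of a similarity of the odd form. -/
noncomputable def oddPsi (h2 : (2 : F) ≠ 0) : ↥(simG (oddForm m F)) →* ℤˣ :=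
  (theta (Q := oddForm m F) (1 : F)).comp (soPart h2)

theorem simAut_mem_inn_iff (h2 : (2 : F) ≠ 0) (hm : 2 ≤ m) (g : ↥(simG (oddForm m F))) :
    simAut g ∈ Cfsg.Inn (POmega F ⇑(oddForm m F)) ↔ oddPsi h2 g = 1 := by
  have hnd := CfsgLib.Orth.ndPolar_iff.mp (ndPolar_oddForm (F := F) h2 m)
  have hn : 2 ≤ Fintype.card (Unit ⊕ (Fin m ⊕ Fin m)) := by rw [odd_card_index]; omega
  constructor
  · rintro ⟨x, hx⟩
    induction x using QuotientGroup.induction_on with
    | _ w =>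
      obtain ⟨c, hc⟩ := odd_hker h2 hm (g * (isoToSim (w : ↥(isometryGroup F ⇑(oddForm m F))))⁻¹)
        (by rw [map_mul, map_inv, CfsgLib.PGOQuot.simAut_omega, ← hx, mul_inv_cancel])
      have hg : g = oddScal c * isoToSim (w : ↥(isometryGroup F ⇑(oddForm m F))) := by
        rw [← mul_inv_eq_iff_eq_mul]
        exact Subtype.ext hc
      obtain ⟨hd, ht⟩ := (CfsgLib.OrthSpinor.mem_Omega_iff h2 hnd hn one_ne_zero _).mp w.2
      rw [oddPsi, MonoidHom.comp_apply, hg, map_mul, soPart_oddScal, one_mul, soPart_iso h2 hd]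
      exact ht
  · intro h
    refine ⟨QuotientGroup.mk ⟨soPart h2 g,
      (CfsgLib.OrthSpinor.mem_Omega_iff h2 hnd hn one_ne_zero _).mpr ⟨detHom_soPart h2 g, h⟩⟩, ?_⟩
    rw [← simAut_soPart h2 g]
    exact (CfsgLib.PGOQuot.simAut_omega ⟨soPart h2 g, _⟩).symm

theorem inn_le_inndiag_odd :
    Cfsg.Inn (POmega F ⇑(oddForm m F)) ≤ (⊤ : Subgroup ↥(simG (oddForm m F))).map simAut := by
  rintro _ ⟨x, rfl⟩
  induction x using QuotientGroup.induction_on with
  | _ w => exact ⟨_, trivial, CfsgLib.PGOQuot.simAut_omega w⟩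

theorem oddPsi_surjective (h2 : (2 : F) ≠ 0) (hm : 1 ≤ m) : Function.Surjective (oddPsi (m := m) h2) := by
  have hnd := CfsgLib.Orth.ndPolar_iff.mp (ndPolar_oddForm (F := F) h2 m)
  have hn : 2 ≤ Fintype.card (Unit ⊕ (Fin m ⊕ Fin m)) := by rw [odd_card_index]; omega
  obtain ⟨ν, hν, hns⟩ := CfsgLib.OrthSpinor.exists_nonsquare' (F := F) h2
  obtain ⟨v, hv⟩ := CfsgLib.OrthSpinor.exists_norm h2 hnd hn 1
  obtain ⟨w, hw⟩ := CfsgLib.OrthSpinor.exists_norm h2 hnd hn ν
  have hv0 : oddForm m F v ≠ 0 := hv ▸ one_ne_zero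
  have hw0 : oddForm m F w ≠ 0 := hw ▸ hν
  intro z
  rcases Int.units_eq_one_or z with rfl | rfl
  · exact ⟨1, map_one _⟩
  · refine ⟨isoToSim (reflection hv0 * reflection hw0), ?_⟩
    rw [oddPsi, MonoidHom.comp_apply, soPart_iso h2 (by
      rw [map_mul, CfsgLib.OrthSpinor.detHom_reflection, CfsgLib.OrthSpinor.detHom_reflection, neg_mul_neg,
        one_mul]), map_mul,
      CfsgLib.OrthSpinor.theta_reflection_of_square h2 one_ne_zero hv0 (by rw [hv, one_mul]; exact IsSquare.one),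
      CfsgLib.OrthSpinor.theta_reflection_of_nonsquare h2 one_ne_zero hw0 (by rwa [hw, one_mul]), mul_one]

/-! ### Base change -/

section Base

variable {F₀ : Type*} [Field F₀] (f : F₀ →+* F)

/-- The similarities over a subfield. -/
noncomputable def oddBase : ↥(simG (oddForm m F₀)) →* ↥(simG (oddForm m F)) :=
  ((Matrix.GeneralLinearGroup.map f).comp (simG (oddForm m F₀)).subtype).codRestrict _ fun A => by
    obtain ⟨c, hc⟩ := A.2
    exact ⟨Units.map f.toMonoidHom c,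
      similar_map f (oddForm m F) ⇑(oddForm m F₀) (oddForm_liftVec f) (A : GL (Unit ⊕ (Fin m ⊕ Fin m)) F₀) c hc⟩

theorem oddBase_coe (A : ↥(simG (oddForm m F₀))) :
    ((oddBase f A : ↥(simG (oddForm m F))) : GL (Unit ⊕ (Fin m ⊕ Fin m)) F) = Matrix.GeneralLinearGroup.map f (A : GL (Unit ⊕ (Fin m ⊕ Fin m)) F₀) := rfl

theorem map_scal_base {ι : Type} [Fintype ι] [DecidableEq ι] (c : F₀ˣ) :
    Matrix.GeneralLinearGroup.map f (scal c : GL ι F₀) = scal (Units.map f.toMonoidHom c) := by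
  refine Units.ext (Matrix.ext fun i j => ?_)
  show f (Matrix.scalar ι (c : F₀) i j) = Matrix.scalar ι (f c) i j
  by_cases hij : i = j
  · subst hij; simp
  · simp [hij]

theorem oddBase_iso_mem (o : ↥(isometryGroup F₀ ⇑(oddForm m F₀))) :
    Matrix.GeneralLinearGroup.map f (o : GL (Unit ⊕ (Fin m ⊕ Fin m)) F₀) ∈ isometryGroup F ⇑(oddForm m F) := fun u _ => by
  have := similar_map f (oddForm m F) ⇑(oddForm m F₀) (oddForm_liftVec f) (o : GL (Unit ⊕ (Fin m ⊕ Fin m)) F₀) 1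
    (fun a => by rw [Units.val_one, one_mul]; exact o.2 a a) u
  rwa [Units.val_one, map_one, one_mul] at this

/-- The isometries over a subfield. -/
noncomputable def oddBaseIso : ↥(isometryGroup F₀ ⇑(oddForm m F₀)) →* ↥(isometryGroup F ⇑(oddForm m F)) :=
  ((Matrix.GeneralLinearGroup.map f).comp (isometryGroup F₀ ⇑(oddForm m F₀)).subtype).codRestrict _
    fun o => oddBase_iso_mem f o

theorem oddBaseIso_reflection {v : Unit ⊕ (Fin m ⊕ Fin m) → F₀} (hv : oddForm m F₀ v ≠ 0) :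
    ∃ hv' : oddForm m F (liftVec f v) ≠ 0, oddBaseIso f (reflection hv) = reflection hv' := by
  have hv' : oddForm m F (liftVec f v) ≠ 0 := by rw [oddForm_liftVec]; simpa using hv
  refine ⟨hv', CfsgLib.OrthSpinor.eq_of_matrix (oddForm m F) ?_⟩
  show (reflectionMatrix ⇑(oddForm m F₀) v).map f = reflectionMatrix ⇑(oddForm m F) (liftVec f v)
  have hpol : ∀ j, f (polarVec ⇑(oddForm m F₀) v j) = polarVec ⇑(oddForm m F) (liftVec f v) j := fun j => by
    have h1 : (Pi.single j 1 : Unit ⊕ (Fin m ⊕ Fin m) → F) = liftVec f (Pi.single j 1) := funext fun i => by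
      by_cases hij : i = j
      · subst hij; simp [liftVec]
      · simp [liftVec, hij]
    have h2 : liftVec f v + liftVec f (Pi.single j 1) = liftVec f (v + Pi.single j 1) := funext fun i => by
      simp [liftVec]
    rw [polarVec, polarVec, QuadraticMap.polar, QuadraticMap.polar, h1, h2, map_sub, map_sub, oddForm_liftVec,
      oddForm_liftVec, oddForm_liftVec]
  ext i j
  rw [Matrix.map_apply]
  simp only [reflectionMatrix, Matrix.sub_apply, Matrix.smul_apply, Matrix.vecMulVec_apply, smul_eq_mul, map_sub,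
    map_mul, map_inv₀, hpol, ← oddForm_liftVec]
  by_cases hij : i = j
  · subst hij; simp
  · simp [hij]

theorem soPart_oddBase (h2 : (2 : F) ≠ 0) (h20 : (2 : F₀) ≠ 0) (A : ↥(simG (oddForm m F₀))) :
    soPart h2 (oddBase f A) = oddBaseIso f (soPart h20 A) := by
  have hmu : oddMu (oddBase f A) = Units.map f.toMonoidHom (oddMu A) :=
    oddMu_eq (similar_map f (oddForm m F) ⇑(oddForm m F₀) (oddForm_liftVec f) (A : GL (Unit ⊕ (Fin m ⊕ Fin m)) F₀) _ (oddMu_spec A))
  have hdet : Matrix.GeneralLinearGroup.det (Matrix.GeneralLinearGroup.map f (A : GL (Unit ⊕ (Fin m ⊕ Fin m)) F₀)) =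
      Units.map f.toMonoidHom (Matrix.GeneralLinearGroup.det (A : GL (Unit ⊕ (Fin m ⊕ Fin m)) F₀)) :=
    Units.ext (RingHom.map_det f _).symm
  have hs : oddSgn (oddBase f A) = Units.map f.toMonoidHom (oddSgn A) := by
    rw [oddSgn_apply, oddSgn_apply, map_mul, map_inv, map_pow, hmu, oddBase_coe, hdet]
  refine Subtype.ext ?_
  show _ = Matrix.GeneralLinearGroup.map f ((scal (oddSgn A))⁻¹ * (A : GL (Unit ⊕ (Fin m ⊕ Fin m)) F₀))
  rw [soPart_coe, hs, oddBase_coe, map_mul, map_inv (Matrix.GeneralLinearGroup.map f), map_scal_base]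

variable {σ : ↥(invAut (oddForm m F))}

theorem odd_centralizer_iff (h2 : (2 : F) ≠ 0) (hm : 2 ≤ m) (hf : ∀ a, (σ : F ≃+* F) (f a) = f a)
    (hf' : ∀ x, (σ : F ≃+* F) x = x → ∃ a, f a = x) (g : ↥(simG (oddForm m F))) :
    Commute (simAut g) (fieldAut σ) ↔ ∃ (e : Fˣ) (A : ↥(simG (oddForm m F₀))), g = oddScal e * oddBase f A := by
  constructor
  · intro hg
    have h := fieldAut_simAut σ g
    rw [← hg.eq, mul_left_inj] at h
    obtain ⟨u, hu⟩ := odd_hker h2 hm (simMap σ g * g⁻¹) (by rw [map_mul, map_inv, ← h, mul_inv_cancel])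
    rw [Subgroup.coe_mul, Subgroup.coe_inv, simMap_coe, mul_inv_eq_iff_eq_mul, scal_eq] at hu
    obtain ⟨e, A, hA⟩ := exists_scalar_base f hf' hu
    obtain ⟨c, hc⟩ := g.2
    rw [hA] at hc
    obtain ⟨c₀, -, hc₀⟩ := similar_of_map f (oddForm m F) ⇑(oddForm m F₀) (oddForm_liftVec f)
      ⟨_, by rw [oddForm_single (F := F₀)]; exact one_ne_zero⟩ A e c hc
    exact ⟨e, ⟨A, c₀, hc₀⟩, Subtype.ext (hA.trans (by rw [← scal_eq]; rfl))⟩
  · rintro ⟨e, A, rfl⟩
    have hfix : simMap σ (oddBase f A) = oddBase f A :=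
      Subtype.ext (Units.ext (Matrix.ext fun i j => hf _))
    rw [map_mul, show simAut (oddScal (m := m) e) = 1 from simAut_scal e, one_mul]
    show _ * _ = _ * _
    rw [fieldAut_simAut, hfix]

theorem odd_centralizer_equiv [Fintype F₀] (h2 : (2 : F) ≠ 0) (h20 : (2 : F₀) ≠ 0) (hm : 2 ≤ m)
    (hf : ∀ a, (σ : F ≃+* F) (f a) = f a) (hf' : ∀ x, (σ : F ≃+* F) x = x → ∃ a, f a = x) :
    Nonempty (↥(oddInndiag m F ⊓ Subgroup.centralizer {fieldAut σ}) ≃*
      ↥(oddInndiag m F₀)) := by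
  let φ : ↥(simG (oddForm m F₀)) →* MulAut (POmega F ⇑(oddForm m F)) := simAut.comp (oddBase f)
  have hrange : φ.range = oddInndiag m F ⊓ Subgroup.centralizer {fieldAut σ} := by
    rw [inndiag_odd_eq]
    apply le_antisymm
    · rintro _ ⟨A, rfl⟩
      exact ⟨⟨_, trivial, rfl⟩, Subgroup.mem_centralizer_singleton_iff.mpr
        ((odd_centralizer_iff f h2 hm hf hf' _).mpr ⟨1, A, by
          rw [show oddScal (m := m) (1 : Fˣ) = 1 from Subtype.ext (map_one _), one_mul]⟩).eq⟩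
    · rintro _ ⟨⟨g, -, rfl⟩, hg⟩
      obtain ⟨e, A, rfl⟩ := (odd_centralizer_iff f h2 hm hf hf' g).mp (Subgroup.mem_centralizer_singleton_iff.mp hg)
      exact ⟨A, by rw [map_mul, show simAut (oddScal (m := m) e) = 1 from simAut_scal e, one_mul]; rfl⟩
  have hker : φ.ker = (simAut : ↥(simG (oddForm m F₀)) →* _).ker := by
    ext A
    rw [MonoidHom.mem_ker, MonoidHom.mem_ker]
    constructor
    · intro h
      obtain ⟨u, hu⟩ := odd_hker h2 hm _ h
      rw [oddBase_coe] at hu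
      have h3 : ∀ i j, f (((A : GL (Unit ⊕ (Fin m ⊕ Fin m)) F₀) : Matrix (Unit ⊕ (Fin m ⊕ Fin m)) (Unit ⊕ (Fin m ⊕ Fin m)) F₀) i j) =
          Matrix.scalar (Unit ⊕ (Fin m ⊕ Fin m)) (u : F) i j := fun i j => by
        have h4 : ((Matrix.GeneralLinearGroup.map f (A : GL (Unit ⊕ (Fin m ⊕ Fin m)) F₀) :
            GL (Unit ⊕ (Fin m ⊕ Fin m)) F) : Matrix (Unit ⊕ (Fin m ⊕ Fin m)) (Unit ⊕ (Fin m ⊕ Fin m)) F) i j =
            ((scal u : GL (Unit ⊕ (Fin m ⊕ Fin m)) F) : Matrix (Unit ⊕ (Fin m ⊕ Fin m)) (Unit ⊕ (Fin m ⊕ Fin m)) F) i j := by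
          rw [hu]
        exact h4
      have h5 : ((A : GL (Unit ⊕ (Fin m ⊕ Fin m)) F₀) : Matrix (Unit ⊕ (Fin m ⊕ Fin m)) (Unit ⊕ (Fin m ⊕ Fin m)) F₀) (Sum.inl ()) (Sum.inl ()) ≠ 0 := fun hz => u.ne_zero (by
        have := h3 (Sum.inl ()) (Sum.inl ())
        rw [hz, map_zero] at this
        simpa using this.symm)
      rw [show A = oddScal (Units.mk0 _ h5) from Subtype.ext (Units.ext (Matrix.ext fun i j => f.injective (by
        rw [h3]
        show _ = f (Matrix.scalar _ _ i j)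
        have h6 := h3 (Sum.inl ()) (Sum.inl ())
        by_cases hij : i = j
        · subst hij; simp [h6]
        · simp [hij])))]
      exact simAut_scal _
    · intro h
      obtain ⟨u, hu⟩ := odd_hker h20 hm A h
      rw [MonoidHom.comp_apply, show oddBase f A = oddScal (Units.map f.toMonoidHom u) from
        Subtype.ext (by rw [oddBase_coe, hu, map_scal_base]; rfl)]
      exact simAut_scal _
  have hrange₀ : (simAut : ↥(simG (oddForm m F₀)) →* _).range = oddInndiag m F₀ := by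
    rw [inndiag_odd_eq, MonoidHom.range_eq_map]
  let φ₀ : ↥(simG (oddForm m F₀)) →* MulAut (POmega F₀ ⇑(oddForm m F₀)) := simAut
  let e₁ : (↥(simG (oddForm m F₀)) ⧸ φ₀.ker) ≃* ↥φ₀.range := QuotientGroup.quotientKerEquivRange φ₀
  let e₂ : (↥(simG (oddForm m F₀)) ⧸ φ.ker) ≃* ↥φ.range := QuotientGroup.quotientKerEquivRange φ
  let e₃ : (↥(simG (oddForm m F₀)) ⧸ φ.ker) ≃* (↥(simG (oddForm m F₀)) ⧸ φ₀.ker) :=
    QuotientGroup.quotientMulEquivOfEq hker
  exact ⟨(MulEquiv.subgroupCongr hrange).symm.trans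
    (e₂.symm.trans (e₃.trans (e₁.trans (MulEquiv.subgroupCongr hrange₀))))⟩

/-- The split count is `1` if the centraliser contains an element of spinor norm `-1`, else `2`. -/
theorem odd_split_count (h2 : (2 : F) ≠ 0) (hm : 2 ≤ m) (hf : ∀ a, (σ : F ≃+* F) (f a) = f a)
    (hf' : ∀ x, (σ : F ≃+* F) x = x → ∃ a, f a = x) :
    ((∃ A : ↥(simG (oddForm m F₀)), oddPsi h2 (oddBase f A) = -1) →
      Cfsg.splitClassCount (oddInndiag m F) (Cfsg.Inn (POmega F ⇑(oddForm m F))) (fieldAut σ) = 1) ∧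
    ((∀ A : ↥(simG (oddForm m F₀)), oddPsi h2 (oddBase f A) = 1) →
      Cfsg.splitClassCount (oddInndiag m F) (Cfsg.Inn (POmega F ⇑(oddForm m F))) (fieldAut σ) = 2) := by
  rw [inndiag_odd_eq, CfsgLib.AutPSL.splitClassCount_eq_relIndex _ _ inn_le_inndiag_odd
    (fun h _ k hk => Subgroup.Normal.conj_mem inferInstance k hk h)]
  constructor
  · rintro ⟨A, hA⟩
    rw [Subgroup.relIndex_eq_one]
    rintro _ ⟨g, -, rfl⟩
    have hAc : simAut (oddBase f A) ∈ (⊤ : Subgroup ↥(simG (oddForm m F))).map simAut ⊓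
        Subgroup.centralizer {fieldAut σ} :=
      ⟨⟨_, trivial, rfl⟩, Subgroup.mem_centralizer_singleton_iff.mpr
        ((odd_centralizer_iff f h2 hm hf hf' _).mpr ⟨1, A, by
          rw [show oddScal (m := m) (1 : Fˣ) = 1 from Subtype.ext (map_one _), one_mul]⟩).eq⟩
    rcases Int.units_eq_one_or (oddPsi h2 g) with hg | hg
    · exact Subgroup.mem_sup_right ((simAut_mem_inn_iff h2 hm g).mpr hg)
    · have := mul_mem (Subgroup.mem_sup_left
        (T := Cfsg.Inn (POmega F ⇑(oddForm m F))) hAc)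
        (Subgroup.mem_sup_right (S := (⊤ : Subgroup ↥(simG (oddForm m F))).map simAut ⊓
          Subgroup.centralizer {fieldAut σ})
          ((simAut_mem_inn_iff h2 hm ((oddBase f A)⁻¹ * g)).mpr (by rw [map_mul, map_inv, hA, hg]; rfl)))
      rwa [← map_mul, mul_inv_cancel_left] at this
  · intro hA
    rw [sup_eq_right.mpr (show (⊤ : Subgroup ↥(simG (oddForm m F))).map simAut ⊓
        Subgroup.centralizer {fieldAut σ} ≤ Cfsg.Inn (POmega F ⇑(oddForm m F)) from by
      rintro _ ⟨⟨g, -, rfl⟩, hg⟩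
      obtain ⟨e, A, rfl⟩ := (odd_centralizer_iff f h2 hm hf hf' g).mp (Subgroup.mem_centralizer_singleton_iff.mp hg)
      rw [simAut_mem_inn_iff h2 hm, map_mul, hA, mul_one, oddPsi, MonoidHom.comp_apply, soPart_oddScal, map_one])]
    obtain ⟨φ, hsurj, hker⟩ := CfsgLib.PGOQuot.exists_hom_on_map simAut (⊤ : Subgroup ↥(simG (oddForm m F)))
      (Cfsg.Inn (POmega F ⇑(oddForm m F))) ((oddPsi h2).comp (⊤ : Subgroup ↥(simG (oddForm m F))).subtype)
      (fun z => by
        obtain ⟨g, hg⟩ := oddPsi_surjective (m := m) h2 (by omega) z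
        exact ⟨⟨g, trivial⟩, hg⟩)
      (fun k => simAut_mem_inn_iff h2 hm k)
    rw [CfsgLib.PGOQuot.relIndex_eq_card _ _ φ hsurj hker, Nat.card_eq_fintype_card, Fintype.card_units_int]

/-- Over an extension of odd degree some similarity over the base has spinor norm `-1`. -/
theorem exists_base_psi [Fintype F₀] (h2 : (2 : F) ≠ 0) (h20 : (2 : F₀) ≠ 0) (hm : 1 ≤ m) {σ : F ≃+* F} {r : ℕ}
    (hr : orderOf σ = r) (hodd : Odd r) (hf : ∀ a, σ (f a) = f a) (hf' : ∀ x, σ x = x → ∃ a, f a = x) :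
    ∃ A : ↥(simG (oddForm m F₀)), oddPsi h2 (oddBase f A) = -1 := by
  have hnd := CfsgLib.Orth.ndPolar_iff.mp (ndPolar_oddForm (F := F₀) h20 m)
  have hn : 2 ≤ Fintype.card (Unit ⊕ (Fin m ⊕ Fin m)) := by rw [odd_card_index]; omega
  obtain ⟨ν, hν, hns⟩ := CfsgLib.OrthSpinor.exists_nonsquare' (F := F₀) h20
  have hns' : ¬ IsSquare (f ν) := by
    rintro ⟨t, ht⟩
    have ht0 : t ≠ 0 := fun h => hν (f.injective (by rw [ht, h, mul_zero, map_zero]))
    have h1 : σ t * σ t = t * t := by rw [← map_mul, ← ht, hf]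
    rcases mul_self_eq_mul_self_iff.mp h1 with h | h
    · obtain ⟨a, rfl⟩ := hf' t h
      exact hns ⟨a, f.injective (by rw [ht, map_mul])⟩
    · have hk : ∀ k : ℕ, (σ ^ k) t = (-1) ^ k * t := fun k => by
        induction k with
        | zero => simp
        | succ k ih => rw [pow_succ, RingAut.mul_apply, h, map_neg, ih, pow_succ]; ring
      have h3 := hk r
      rw [← hr, pow_orderOf_eq_one, hr, hodd.neg_one_pow, RingAut.one_apply, neg_one_mul] at h3
      exact mul_ne_zero h2 ht0 (by linear_combination h3)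
  obtain ⟨v, hv⟩ := CfsgLib.OrthSpinor.exists_norm h20 hnd hn 1
  obtain ⟨w, hw⟩ := CfsgLib.OrthSpinor.exists_norm h20 hnd hn ν
  have hv0 : oddForm m F₀ v ≠ 0 := hv ▸ one_ne_zero
  have hw0 : oddForm m F₀ w ≠ 0 := hw ▸ hν
  refine ⟨isoToSim (reflection hv0 * reflection hw0), ?_⟩
  obtain ⟨hv', hv'e⟩ := oddBaseIso_reflection f hv0
  obtain ⟨hw', hw'e⟩ := oddBaseIso_reflection f hw0
  rw [oddPsi, MonoidHom.comp_apply, soPart_oddBase f h2 h20, soPart_iso h20 (by
      rw [map_mul, CfsgLib.OrthSpinor.detHom_reflection, CfsgLib.OrthSpinor.detHom_reflection, neg_mul_neg,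
        one_mul]), map_mul, map_mul, hv'e, hw'e,
    CfsgLib.OrthSpinor.theta_reflection_of_square h2 one_ne_zero hv'
      (by rw [oddForm_liftVec, hv, map_one, one_mul]; exact IsSquare.one),
    CfsgLib.OrthSpinor.theta_reflection_of_nonsquare h2 one_ne_zero hw'
      (by rwa [oddForm_liftVec, hw, one_mul]), mul_one]

/-- Over the quadratic extension all similarities over the base have spinor norm `1`. -/
theorem base_psi_eq_one [Fintype F₀] (h2 : (2 : F) ≠ 0) (h20 : (2 : F₀) ≠ 0)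
    (hcard : Fintype.card F = Fintype.card F₀ ^ 2) (A : ↥(simG (oddForm m F₀))) :
    oddPsi h2 (oddBase f A) = 1 := by
  have hnd := CfsgLib.Orth.ndPolar_iff.mp (ndPolar_oddForm (F := F₀) h20 m)
  have hsq : ∀ a : F₀, a ≠ 0 → IsSquare (f a) := fun a ha => by
    have hchar : ringChar F ≠ 2 := fun h => h2 (by
      have := CharP.cast_eq_zero F (ringChar F)
      rw [h] at this
      exact_mod_cast this)
    rw [FiniteField.isSquare_iff hchar (by simpa using ha), ← map_pow]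
    obtain ⟨t, ht⟩ : ∃ t, Fintype.card F₀ = 2 * t + 1 :=
      CfsgLib.Classical.Quad.two_ne_zero_iff_odd.1 h20 |>.imp fun t ht => by
        rwa [Nat.card_eq_fintype_card] at ht
    have he : Fintype.card F / 2 = (Fintype.card F₀ - 1) * (t + 1) := by
      rw [hcard, ht, show 2 * t + 1 - 1 = 2 * t by omega,
        show (2 * t + 1) ^ 2 = 2 * (2 * t * (t + 1)) + 1 by ring]
      omega
    rw [he, pow_mul, FiniteField.pow_card_sub_one_eq_one a ha, one_pow, map_one]
  let φ : ℤˣ →* F₀ˣ := Units.map (Int.castRingHom F₀).toMonoidHom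
  have key : φ.comp ((theta (Q := oddForm m F) (1 : F)).comp (oddBaseIso f)) = detHom := by
    refine CfsgLib.OrthSpinor.hom_ext h20 hnd fun v hv => ?_
    obtain ⟨hv', hv'e⟩ := oddBaseIso_reflection f hv
    rw [MonoidHom.comp_apply, MonoidHom.comp_apply, hv'e, CfsgLib.OrthSpinor.detHom_reflection,
      CfsgLib.OrthSpinor.theta_reflection_of_square h2 one_ne_zero hv'
        (by rw [one_mul, oddForm_liftVec]; exact hsq _ hv)]
    exact Units.ext (by simp [φ])
  have h := DFunLike.congr_fun key (soPart h20 A)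
  rw [MonoidHom.comp_apply, MonoidHom.comp_apply, ← soPart_oddBase f h2 h20, detHom_soPart] at h
  rcases Int.units_eq_one_or (oddPsi h2 (oddBase f A)) with h1 | h1
  · exact h1
  · exfalso
    rw [oddPsi, MonoidHom.comp_apply] at h1
    rw [h1] at h
    have h4 : (-1 : F₀) = 1 := by simpa [φ] using congrArg Units.val h
    exact h20 (by linear_combination -h4)

end Base

/-- Field automorphisms of prime order of `Ω_{2m+1}(F)`. -/
theorem odd_field_facts {p n : ℕ} [Fact p.Prime] (hF : Fintype.card F = p ^ n)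
    (hodd : Odd (Fintype.card F)) (hm : 3 ≤ m) {x : MulAut (POmega F ⇑(oddForm m F))}
    (hx : IsFieldAutClassPOmega ⇑(oddForm m F) x) {r : ℕ} (hxr : orderOf x = r)
    (F₀ : Type*) [Field F₀] [Fintype F₀] (hF₀ : Fintype.card F₀ = p ^ (n / r)) :
    r ∣ n ∧ Nonempty (↥(oddInndiag m F ⊓ Subgroup.centralizer {x}) ≃* ↥(oddInndiag m F₀)) ∧
      (Odd r → Cfsg.splitClassCount (oddInndiag m F) (Cfsg.Inn (POmega F ⇑(oddForm m F))) x = 1) ∧
      (r = 2 → Cfsg.splitClassCount (oddInndiag m F) (Cfsg.Inn (POmega F ⇑(oddForm m F))) x = 2) := by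
  obtain ⟨g, σ, hσr, hxe⟩ := odd_normal_form hodd hm hx hxr
  obtain ⟨e⟩ := CfsgLib.AutPSL.exists_equiv_fixedField (σ : F ≃+* F) hF hσr hF₀
  let f : F₀ →+* F := (fixedField (σ : F ≃+* F)).subtype.comp e.toRingHom
  have hf : ∀ a, (σ : F ≃+* F) (f a) = f a := fun a => (mem_fixedField _).mp (e a).2
  have hf' : ∀ y, (σ : F ≃+* F) y = y → ∃ a, f a = y := fun y hy => ⟨e.symm ⟨y, hy⟩, by simp [f]⟩
  have h2 := odd_two_ne_zero hodd
  have h20 : (2 : F₀) ≠ 0 := fun h => h2 (by rw [← map_ofNat f, h, map_zero])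
  have hmem : simAut g ∈ oddInndiag m F := by rw [inndiag_odd_eq]; exact ⟨g, trivial, rfl⟩
  have hrn := (CfsgLib.AutPSL.fixedField_card (σ : F ≃+* F) hF hσr).1
  obtain ⟨h1, h2c⟩ := odd_split_count f h2 (by omega) hf hf'
  have hcongr := CfsgLib.AutPSL.splitClassCount_congr (oddInndiag m F)
    (Cfsg.Inn (POmega F ⇑(oddForm m F))) (x' := fieldAut σ)
    (CfsgLib.AutPSL.isConjUnder_symm ⟨_, hmem, hxe⟩)
  refine ⟨hrn, ?_, fun hr => ?_, fun hr => ?_⟩
  · obtain ⟨e₁⟩ := CfsgLib.AutPSL.centralizer_equiv_of_conj _ hmem hxe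
    obtain ⟨e₂⟩ := odd_centralizer_equiv f h2 h20 (m := m) (by omega) hf hf'
    exact ⟨e₁.trans e₂⟩
  · rw [hcongr]
    exact h1 (exists_base_psi f h2 h20 (by omega) hσr hr hf hf')
  · rw [hcongr]
    exact h2c (base_psi_eq_one f h2 h20 (by
      rw [hF, hF₀, ← pow_mul, hr]
      obtain ⟨k, rfl⟩ := hrn
      rw [hr, Nat.mul_div_cancel_left k two_pos, mul_comm]))

/-- Conjugacy in the coset of a field automorphism of prime order of `Ω_{2m+1}(F)`. -/
theorem odd_coset_iff (hodd : Odd (Fintype.card F)) (hm : 3 ≤ m) {x δ : MulAut (POmega F ⇑(oddForm m F))}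
    (hx : IsFieldAutClassPOmega ⇑(oddForm m F) x) {r : ℕ} (hxr : orderOf x = r)
    (hδ : δ ∈ oddInndiag m F) :
    orderOf (δ * x) = r ↔ IsConjUnder (oddInndiag m F) x (δ * x) := by
  obtain ⟨g, σ, hσr, hxe⟩ := odd_normal_form hodd hm hx hxr
  exact orderOf_coset_iff (⊤ : Subgroup ↥(simG (oddForm m F))) (inndiag_odd_eq m F) (Subgroup.mem_top g) hxr hxe
    (fun d _ hy => by
      obtain ⟨h, hh⟩ := odd_coset_conj hodd (by omega) hσr d hy
      exact ⟨h, Subgroup.mem_top h, hh⟩) hδ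

end CfsgLib.Descent
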