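import Cfsg.Agent.Lib.Descent.Frame
import Cfsg.Agent.Lib.PGOQuot.Conj
import Cfsg.Agent.Lib.AutPSL.Coset

/-!
Field automorphisms of `PΩ(Q)`, `Q` a form with coefficients fixed by the field automorphism: their commutation
with similarities, powers in a coset, normal forms, and the conjugacy in a coset obtained from descent.
-/

set_option autoImplicit false
set_option linter.style.haveILetI false
set_option linter.unusedSectionVars false

namespace CfsgLib.Descent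

open Matrix QuadraticMap Cfsg
open CfsgLib.AutPSL (fixedField mem_fixedField ringAut_comm)
open CfsgLib.Classical.Quad (NDPolar)
open CfsgLib.PGOQuot (simG simAut conjOmega scal)

variable {F : Type*} [Field F] {ι : Type} [Fintype ι] [DecidableEq ι] {Q : QuadraticForm F (ι → F)}

theorem scal_eq (c : Fˣ) : (scal c : GL ι F) = Matrix.GeneralLinearGroup.scalar ι c :=
  gl_ext fun v => by rw [CfsgLib.PGOQuot.scal_mulVec, scalar_mulVec]

/-- The field automorphisms fixing the coefficients of `Q`. -/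
def invAut (Q : QuadraticForm F (ι → F)) : Subgroup (F ≃+* F) where
  carrier := {σ | Invariant (⇑Q) σ}
  one_mem' _ := rfl
  mul_mem' {σ τ} hσ hτ v := (hσ fun i => τ (v i)).trans (congrArg σ (hτ v))
  inv_mem' {σ} hσ v := by
    apply σ.injective
    rw [← hσ]
    have : (fun i => σ ((σ⁻¹) (v i))) = v := funext fun i => σ.apply_symm_apply _
    rw [this]
    exact (σ.apply_symm_apply _).symm

theorem mem_invAut {σ : F ≃+* F} : σ ∈ invAut Q ↔ Invariant (⇑Q) σ := Iff.rfl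

theorem iso_map_mem (σ : ↥(invAut Q)) (s : ↥(isometryGroup F ⇑Q)) :
    mapGL (σ : F ≃+* F) (s : GL ι F) ∈ isometryGroup F ⇑Q := by
  intro u _
  show Q (((s : GL ι F) : Matrix ι ι F).map (σ : F ≃+* F) *ᵥ u) = Q u
  obtain ⟨w, rfl⟩ : ∃ w : ι → F, (fun i => (σ : F ≃+* F) (w i)) = u :=
    ⟨fun i => (σ : F ≃+* F).symm (u i), funext fun i => RingEquiv.apply_symm_apply _ _⟩
  rw [← map_mulVec_apply, σ.2, σ.2, show Q (((s : GL ι F) : Matrix ι ι F) *ᵥ w) = _ from s.2 w w]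

/-- Entrywise action on the isometry group. -/
def fieldIso : ↥(invAut Q) →* MulAut ↥(isometryGroup F ⇑Q) where
  toFun σ :=
    { toFun := fun s => ⟨_, iso_map_mem σ s⟩
      invFun := fun s => ⟨_, iso_map_mem σ⁻¹ s⟩
      left_inv := fun s => Subtype.ext (Units.ext (Matrix.ext fun i j =>
        (σ : F ≃+* F).symm_apply_apply _))
      right_inv := fun s => Subtype.ext (Units.ext (Matrix.ext fun i j =>
        (σ : F ≃+* F).apply_symm_apply _))
      map_mul' := fun s t => Subtype.ext (map_mul _ _ _) }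
  map_one' := MulEquiv.ext fun s => Subtype.ext (Units.ext (Matrix.ext fun _ _ => rfl))
  map_mul' σ τ := MulEquiv.ext fun s => Subtype.ext (Units.ext (Matrix.ext fun _ _ => rfl))

theorem fieldIso_coe (σ : ↥(invAut Q)) (s : ↥(isometryGroup F ⇑Q)) :
    ((fieldIso σ s : ↥(isometryGroup F ⇑Q)) : GL ι F) = mapGL (σ : F ≃+* F) (s : GL ι F) := rfl

theorem fieldIso_mem (σ : ↥(invAut Q)) {s : ↥(isometryGroup F ⇑Q)} (hs : s ∈ Omega F ⇑Q) :
    fieldIso σ s ∈ Omega F ⇑Q := by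
  have h : (Omega F ⇑Q).map (fieldIso σ).toMonoidHom = Omega F ⇑Q := by
    rw [Omega, commutator_def, Subgroup.map_commutator,
      Subgroup.map_top_of_surjective _ (fieldIso σ).surjective]
  rw [← h]
  exact Subgroup.mem_map_of_mem _ hs

/-- Entrywise action on `Ω`. -/
def fieldOmega : ↥(invAut Q) →* MulAut ↥(Omega F ⇑Q) where
  toFun σ :=
    { toFun := fun s => ⟨fieldIso σ s.1, fieldIso_mem σ s.2⟩
      invFun := fun s => ⟨fieldIso σ⁻¹ s.1, fieldIso_mem σ⁻¹ s.2⟩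
      left_inv := fun s => Subtype.ext (show (fieldIso σ⁻¹ * fieldIso σ) s.1 = s.1 by
        rw [← map_mul, inv_mul_cancel, map_one]; rfl)
      right_inv := fun s => Subtype.ext (show (fieldIso σ * fieldIso σ⁻¹) s.1 = s.1 by
        rw [← map_mul, mul_inv_cancel, map_one]; rfl)
      map_mul' := fun s t => Subtype.ext (map_mul _ _ _) }
  map_one' := MulEquiv.ext fun s => Subtype.ext (by simp)
  map_mul' σ τ := MulEquiv.ext fun s => Subtype.ext (by simp [map_mul])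

/-- The standard field automorphism of `PΩ(Q)`. -/
def fieldAut : ↥(invAut Q) →* MulAut (POmega F ⇑Q) := CfsgLib.AutPSL.descend.comp fieldOmega

@[simp] theorem fieldAut_mk (σ : ↥(invAut Q)) (s : ↥(Omega F ⇑Q)) :
    fieldAut σ (QuotientGroup.mk s) = QuotientGroup.mk (fieldOmega σ s) := rfl

theorem fieldOmega_coe (σ : ↥(invAut Q)) (s : ↥(Omega F ⇑Q)) :
    (((fieldOmega σ s : ↥(Omega F ⇑Q)) : ↥(isometryGroup F ⇑Q)) : GL ι F) =
      mapGL (σ : F ≃+* F) ((s : ↥(isometryGroup F ⇑Q)) : GL ι F) := rfl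

theorem fieldAutOf_iff (σ : ↥(invAut Q)) (β : MulAut (POmega F ⇑Q)) :
    IsFieldAutPOmegaOf (⇑Q) (σ : F ≃+* F) β ↔ β = fieldAut σ := by
  constructor
  · intro h
    exact CfsgLib.AutPSL.eq_descend_iff.mpr fun s => h s (fieldOmega σ s) rfl
  · rintro rfl s s' hs
    rw [fieldAut_mk]
    exact congrArg _ (Subtype.ext (Subtype.ext (Units.ext hs.symm)))

theorem map_mem_simG (σ : ↥(invAut Q)) {g : GL ι F} (hg : g ∈ simG Q) :
    mapGL (σ : F ≃+* F) g ∈ simG Q := by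
  obtain ⟨c, hc⟩ := hg
  refine ⟨Units.map (σ : F ≃+* F).toMonoidHom c, fun u => ?_⟩
  obtain ⟨w, rfl⟩ : ∃ w : ι → F, (fun i => (σ : F ≃+* F) (w i)) = u :=
    ⟨fun i => (σ : F ≃+* F).symm (u i), funext fun i => RingEquiv.apply_symm_apply _ _⟩
  rw [mapGL_coe, ← map_mulVec_apply, σ.2, σ.2, hc, map_mul]
  rfl

/-- Entrywise action on the similarities. -/
def simMap (σ : ↥(invAut Q)) : ↥(simG Q) →* ↥(simG Q) :=
  ((mapGL (σ : F ≃+* F)).comp (simG Q).subtype).codRestrict _ fun g => map_mem_simG σ g.2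

theorem simMap_coe (σ : ↥(invAut Q)) (g : ↥(simG Q)) :
    ((simMap σ g : ↥(simG Q)) : GL ι F) = mapGL (σ : F ≃+* F) (g : GL ι F) := rfl

theorem fieldAut_simAut (σ : ↥(invAut Q)) (g : ↥(simG Q)) :
    (fieldAut σ * simAut g : MulAut (POmega F ⇑Q)) = simAut (simMap σ g) * fieldAut σ := by
  have h : fieldOmega σ * conjOmega g = conjOmega (simMap σ g) * fieldOmega σ := by
    refine MulEquiv.ext fun s => Subtype.ext (Subtype.ext ?_)
    simp only [MulAut.mul_apply, fieldOmega_coe, CfsgLib.PGOQuot.conjOmega_coe, simMap_coe, map_mul, map_inv]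
  simp only [fieldAut, simAut, MonoidHom.comp_apply, ← map_mul, h]

theorem induced_iff (g : ↥(simG Q)) (σ : ↥(invAut Q)) (β : MulAut (POmega F ⇑Q)) :
    IsInducedBySemilinearPOmega (⇑Q) (g : GL ι F) (σ : F ≃+* F) β ↔ β = simAut g * fieldAut σ := by
  constructor
  · intro h
    refine MulEquiv.ext fun x => ?_
    induction x using QuotientGroup.induction_on with
    | _ s =>
      rw [MulAut.mul_apply, fieldAut_mk, CfsgLib.PGOQuot.simAut_mk]
      refine h s _ ?_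
      rw [CfsgLib.PGOQuot.conjOmega_coe, fieldOmega_coe, Units.val_mul, Units.val_mul, mapGL_coe]
  · rintro rfl s s' hs
    rw [MulAut.mul_apply, fieldAut_mk, CfsgLib.PGOQuot.simAut_mk]
    refine congrArg _ (Subtype.ext (Subtype.ext (Units.ext ?_)))
    rw [hs, CfsgLib.PGOQuot.conjOmega_coe, fieldOmega_coe, Units.val_mul, Units.val_mul, mapGL_coe]

theorem pair_iff (g : GL ι F) (σ : ↥(invAut Q)) :
    IsSemisimilarityPair (⇑Q) g (σ : F ≃+* F) ↔ g ∈ simG Q := by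
  constructor
  · rintro ⟨c, hc⟩
    refine ⟨c, fun u => ?_⟩
    obtain ⟨w, rfl⟩ : ∃ w : ι → F, (fun i => (σ : F ≃+* F) (w i)) = u :=
      ⟨fun i => (σ : F ≃+* F).symm (u i), funext fun i => RingEquiv.apply_symm_apply _ _⟩
    rw [hc, σ.2]
  · rintro ⟨c, hc⟩
    exact ⟨c, fun v => by rw [hc, σ.2]⟩

theorem iterGL_mem (g : ↥(simG Q)) (σ : ↥(invAut Q)) (k : ℕ) :
    iterGL (g : GL ι F) (σ : F ≃+* F) k ∈ simG Q := by
  induction k with
  | zero => exact one_mem _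
  | succ k ih => exact mul_mem g.2 (map_mem_simG σ ih)

/-- Powers in the coset of a field automorphism. -/
theorem pow_coset (g : ↥(simG Q)) (σ : ↥(invAut Q)) (k : ℕ) :
    (simAut g * fieldAut σ : MulAut (POmega F ⇑Q)) ^ k =
      simAut ⟨_, iterGL_mem g σ k⟩ * fieldAut σ ^ k := by
  induction k with
  | zero =>
    rw [pow_zero, pow_zero, mul_one]
    exact (map_one simAut).symm
  | succ k ih =>
    have h : (⟨_, iterGL_mem g σ (k + 1)⟩ : ↥(simG Q)) = g * simMap σ ⟨_, iterGL_mem g σ k⟩ := rfl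
    rw [pow_succ', ih, h, map_mul simAut, pow_succ',
      show (simAut g * fieldAut σ * (simAut ⟨_, iterGL_mem g σ k⟩ * fieldAut σ ^ k) : MulAut (POmega F ⇑Q)) =
        simAut g * (fieldAut σ * simAut ⟨_, iterGL_mem g σ k⟩) * fieldAut σ ^ k by group, fieldAut_simAut]
    group

/-- A field automorphism acting trivially fixes every entry up to one scalar per similarity. -/
theorem map_eq_scal_of_fieldAut_eq_one
    (hker : ∀ g : ↥(simG Q), simAut g = 1 → ∃ c : Fˣ, (g : GL ι F) = scal c)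
    {σ : ↥(invAut Q)} (hσ : fieldAut σ = 1) (g : ↥(simG Q)) :
    ∃ u : Fˣ, mapGL (σ : F ≃+* F) (g : GL ι F) = scal u * (g : GL ι F) := by
  have h := fieldAut_simAut σ g
  rw [hσ, one_mul, mul_one] at h
  obtain ⟨u, hu⟩ := hker (simMap σ g * g⁻¹) (by rw [map_mul, map_inv, ← h, mul_inv_cancel])
  rw [Subgroup.coe_mul, Subgroup.coe_inv, simMap_coe, mul_inv_eq_iff_eq_mul] at hu
  exact ⟨u, hu⟩

/-- Faithfulness of the field automorphisms, given for each scalar a similarity with entries `1` and it. -/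
theorem fieldAut_injective
    (hker : ∀ g : ↥(simG Q), simAut g = 1 → ∃ c : Fˣ, (g : GL ι F) = scal c)
    (hent : ∀ a : F, a ≠ 0 → ∃ g : ↥(simG Q),
      (∃ i j, ((g : GL ι F) : Matrix ι ι F) i j = 1) ∧ ∃ i j, ((g : GL ι F) : Matrix ι ι F) i j = a) :
    Function.Injective (fieldAut : ↥(invAut Q) →* MulAut (POmega F ⇑Q)) := by
  rw [injective_iff_map_eq_one]
  intro σ hσ
  refine Subtype.ext (RingEquiv.ext fun a => ?_)
  rcases eq_or_ne a 0 with rfl | ha
  · simp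
  obtain ⟨g, ⟨i, j, hij⟩, k, l, hkl⟩ := hent a ha
  obtain ⟨u, hu⟩ := map_eq_scal_of_fieldAut_eq_one hker hσ g
  have h : ∀ i j, (σ : F ≃+* F) (((g : GL ι F) : Matrix ι ι F) i j) =
      (u : F) * ((g : GL ι F) : Matrix ι ι F) i j := fun i j => by
    have h1 : ((mapGL (σ : F ≃+* F) (g : GL ι F) : GL ι F) : Matrix ι ι F) i j =
        ((scal u * (g : GL ι F) : GL ι F) : Matrix ι ι F) i j := by rw [hu]
    rw [Units.val_mul, mapGL_coe, Matrix.map_apply] at h1
    rw [h1]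
    simp [scal, Matrix.diagonal_mul]
  have hu1 : (u : F) = 1 := by
    have := h i j
    rw [hij, map_one, mul_one] at this
    exact this.symm
  have := h k l
  rw [hkl, hu1, one_mul] at this
  exact this

variable [Fintype F]

/-- **Frame of a coset element of order `r`.** -/
theorem coset_frame [Nonempty ι]
    (hker : ∀ g : ↥(simG Q), simAut g = 1 → ∃ c : Fˣ, (g : GL ι F) = scal c)
    (hne : ∃ v, Q v ≠ 0) {σ : ↥(invAut Q)} {r : ℕ} (hr : orderOf (σ : F ≃+* F) = r) (g : ↥(simG Q))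
    (hy : (simAut g * fieldAut σ : MulAut (POmega F ⇑Q)) ^ r = 1) :
    ∃ (x : Fˣ) (H : GL ι F) (η : Fˣ)
      (Q₀ : QuadraticForm ↥(fixedField (σ : F ≃+* F)) (ι → ↥(fixedField (σ : F ≃+* F)))),
      scal x * (g : GL ι F) * mapGL (σ : F ≃+* F) H = H ∧
      (∀ a, Q ((H : Matrix ι ι F) *ᵥ liftVec (fixedField (σ : F ≃+* F)).subtype a) = (η : F) * (Q₀ a : F)) ∧
      (NDPolar Q → NDPolar Q₀) := by
  obtain ⟨μ, hμ⟩ := g.2
  have hσr : σ ^ r = 1 := Subtype.ext (by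
    rw [SubmonoidClass.coe_pow, ← hr]; exact pow_orderOf_eq_one _)
  rw [pow_coset, ← map_pow fieldAut, hσr, map_one, mul_one] at hy
  obtain ⟨c, hc⟩ := hker _ hy
  obtain ⟨x, H, η, Q₀, hH, hQ₀, hnd⟩ := exists_frame hr Q σ.2 hne (g : GL ι F) μ hμ c
    (hc.trans (scal_eq c))
  exact ⟨x, H, η, Q₀, by rw [scal_eq]; exact hH, hQ₀, hnd⟩

/-- A semisimilarity with fixed frame similar to the base is conjugate to the field automorphism. -/
theorem conj_of_fixed (σ : ↥(invAut Q)) (x : Fˣ) (g h : ↥(simG Q))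
    (hh : scal x * (g : GL ι F) * mapGL (σ : F ≃+* F) (h : GL ι F) = (h : GL ι F))
    (hsc : ∀ c : Fˣ, simAut (⟨scal c, CfsgLib.PGOQuot.scal_mem_simG c⟩ : ↥(simG Q)) = 1) :
    (simAut g * fieldAut σ : MulAut (POmega F ⇑Q)) = simAut h * fieldAut σ * (simAut h)⁻¹ := by
  have hu : (⟨scal x, CfsgLib.PGOQuot.scal_mem_simG x⟩ : ↥(simG Q)) * g * simMap σ h = h := Subtype.ext hh
  have h1 := congrArg (simAut (Q := Q)) hu
  rw [map_mul, map_mul, hsc, one_mul] at h1
  have hd : (simAut g : MulAut (POmega F ⇑Q)) = simAut h * (simAut (simMap σ h))⁻¹ := by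
    rw [← h1, mul_inv_cancel_right]
  rw [hd, ← map_inv, ← map_inv simAut h, ← map_inv (simMap σ), mul_assoc, ← fieldAut_simAut, ← mul_assoc]

theorem simAut_scal (c : Fˣ) : simAut (⟨scal c, CfsgLib.PGOQuot.scal_mem_simG c⟩ : ↥(simG Q)) = 1 := by
  have h : conjOmega (⟨scal c, CfsgLib.PGOQuot.scal_mem_simG c⟩ : ↥(simG Q)) = 1 := by
    refine MulEquiv.ext fun s => Subtype.ext (Subtype.ext ?_)
    rw [CfsgLib.PGOQuot.conjOmega_coe, CfsgLib.PGOQuot.scal_comm, mul_inv_cancel_right]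
    rfl
  show CfsgLib.AutPSL.descend (conjOmega _) = 1
  rw [h, map_one]

/-- **Coset conjugacy.** If every non-degenerate form over the fixed field is similar to the base form, the
elements of order `r` in the coset of a field automorphism are its conjugates by similarities. -/
theorem coset_conj [Nonempty ι]
    (hker : ∀ g : ↥(simG Q), simAut g = 1 → ∃ c : Fˣ, (g : GL ι F) = scal c)
    (hne : ∃ v, Q v ≠ 0) (hnd : NDPolar Q) {σ : ↥(invAut Q)} {r : ℕ} (hr : orderOf (σ : F ≃+* F) = r)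
    (Qb : (ι → ↥(fixedField (σ : F ≃+* F))) → ↥(fixedField (σ : F ≃+* F)))
    (hQb : ∀ a, Q (liftVec (fixedField (σ : F ≃+* F)).subtype a) = (Qb a : F))
    (hclass : ∀ Q₀ : QuadraticForm ↥(fixedField (σ : F ≃+* F)) (ι → ↥(fixedField (σ : F ≃+* F))),
      NDPolar Q₀ → ∃ (P : GL ι ↥(fixedField (σ : F ≃+* F))) (l : (↥(fixedField (σ : F ≃+* F)))ˣ),
        ∀ a, Q₀ ((P : Matrix ι ι ↥(fixedField (σ : F ≃+* F))) *ᵥ a) = (l : ↥(fixedField (σ : F ≃+* F))) * Qb a)
    (g : ↥(simG Q)) (hy : (simAut g * fieldAut σ : MulAut (POmega F ⇑Q)) ^ r = 1) :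
    ∃ h : ↥(simG Q), (simAut g * fieldAut σ : MulAut (POmega F ⇑Q)) = simAut h * fieldAut σ * (simAut h)⁻¹ := by
  obtain ⟨x, H, η, Q₀, hH, hQ₀, hnd₀⟩ := coset_frame hker hne hr g hy
  obtain ⟨P, l, hP⟩ := hclass Q₀ (hnd₀ hnd)
  obtain ⟨h, hh1, hh2⟩ := exists_conj_similarity Q hH hQ₀ Qb hQb P l hP
  exact ⟨⟨h, hh1⟩, conj_of_fixed σ x g ⟨h, hh1⟩ hh2 simAut_scal⟩

/-- When all automorphisms are semisimilarities, each is `simAut g * fieldAut σ`. -/
theorem exists_decomp (hinv : invAut Q = ⊤) (htop : gammaPOmega F ⇑Q = ⊤) (β : MulAut (POmega F ⇑Q)) :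
    ∃ (g : ↥(simG Q)) (σ : ↥(invAut Q)), β = simAut g * fieldAut σ := by
  have hβ : β ∈ gammaPOmega F ⇑Q := htop ▸ Subgroup.mem_top β
  refine Subgroup.closure_induction (p := fun β _ => ∃ (g : ↥(simG Q)) (σ : ↥(invAut Q)),
    β = simAut g * fieldAut σ) ?_ ⟨1, 1, by simp⟩ ?_ ?_ hβ
  · rintro β ⟨g, σ, hpair, hind⟩
    let σ' : ↥(invAut Q) := ⟨σ, hinv ▸ Subgroup.mem_top σ⟩
    exact ⟨⟨g, (pair_iff g σ').1 hpair⟩, σ', (induced_iff ⟨g, (pair_iff g σ').1 hpair⟩ σ' β).1 hind⟩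
  · rintro _ _ _ _ ⟨g, σ, rfl⟩ ⟨h, τ, rfl⟩
    refine ⟨g * simMap σ h, σ * τ, ?_⟩
    rw [map_mul, map_mul,
      show (simAut g * fieldAut σ * (simAut h * fieldAut τ) : MulAut (POmega F ⇑Q)) =
        simAut g * (fieldAut σ * simAut h) * fieldAut τ by group, fieldAut_simAut]
    group
  · rintro _ _ ⟨g, σ, rfl⟩
    exact ⟨simMap σ⁻¹ g⁻¹, σ⁻¹, by rw [← fieldAut_simAut, map_inv, map_inv, _root_.mul_inv_rev]⟩

/-- A field automorphism is conjugate to a standard one by an inner-diagonal one. -/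
theorem normal_form (hinv : invAut Q = ⊤) (htop : gammaPOmega F ⇑Q = ⊤)
    (hinj : Function.Injective (fieldAut : ↥(invAut Q) →* MulAut (POmega F ⇑Q)))
    {x : MulAut (POmega F ⇑Q)} (hx : IsFieldAutClassPOmega (⇑Q) x) {r : ℕ} (hxr : orderOf x = r) :
    ∃ (g : ↥(simG Q)) (σ : ↥(invAut Q)), orderOf (σ : F ≃+* F) = r ∧
      x = simAut g * fieldAut σ * (simAut g)⁻¹ := by
  obtain ⟨α, φ, σ, -, hstd, hconj⟩ := hx
  let σ' : ↥(invAut Q) := ⟨σ, hinv ▸ Subgroup.mem_top σ⟩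
  rw [show σ = (σ' : F ≃+* F) from rfl, fieldAutOf_iff] at hstd
  obtain ⟨g, τ, hα⟩ := exists_decomp hinv htop α⁻¹
  have hcomm : τ * σ' = σ' * τ := Subtype.ext (ringAut_comm _ _)
  have hxe : x = simAut g * fieldAut σ' * (simAut g)⁻¹ := by
    have hx2 : x = α⁻¹ * φ * α⁻¹⁻¹ := by rw [← hconj]; group
    rw [hx2, hstd, hα]
    calc simAut g * fieldAut τ * fieldAut σ' * (simAut g * fieldAut τ)⁻¹
        = simAut g * (fieldAut τ * fieldAut σ') * (fieldAut τ)⁻¹ * (simAut g)⁻¹ := by group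
      _ = _ := by rw [← map_mul, hcomm, map_mul]; group
  refine ⟨g, σ', ?_, hxe⟩
  rw [← hxr, hxe, CfsgLib.AutPSL.orderOf_conj_eq, orderOf_injective _ hinj, Subgroup.orderOf_coe]

/-- Order criterion in the coset of a field automorphism of prime order. -/
theorem orderOf_coset_iff
    {X : Subgroup (MulAut (POmega F ⇑Q))} (K : Subgroup ↥(simG Q)) (hX : X = K.map simAut)
    {σ : ↥(invAut Q)} {g₀ : ↥(simG Q)} (hg₀ : g₀ ∈ K) {r : ℕ} {x δ : MulAut (POmega F ⇑Q)}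
    (hxr : orderOf x = r) (hx : x = simAut g₀ * fieldAut σ * (simAut g₀)⁻¹)
    (hconj : ∀ g ∈ K, (simAut g * fieldAut σ : MulAut (POmega F ⇑Q)) ^ r = 1 →
      ∃ h ∈ K, (simAut g * fieldAut σ : MulAut (POmega F ⇑Q)) = simAut h * fieldAut σ * (simAut h)⁻¹)
    (hδ : δ ∈ X) :
    orderOf (δ * x) = r ↔ IsConjUnder X x (δ * x) := by
  refine ⟨fun hy => ?_, fun h => ?_⟩
  swap
  · obtain ⟨a, -, ha⟩ := h
    rw [ha, CfsgLib.AutPSL.orderOf_conj_eq, hxr]
  subst hX
  obtain ⟨d, hd, rfl⟩ := hδ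
  obtain ⟨h₁, hh₁K, hh₁⟩ := hconj (g₀⁻¹ * d * g₀) (mul_mem (mul_mem (inv_mem hg₀) hd) hg₀) (by
    rw [map_mul, map_mul, map_inv]
    have hyr : (simAut d * x) ^ r = 1 := by rw [← hy]; exact pow_orderOf_eq_one _
    have he : ((simAut g₀)⁻¹ * simAut d * simAut g₀ * fieldAut σ : MulAut (POmega F ⇑Q)) =
        (simAut g₀)⁻¹ * (simAut d * x) * (simAut g₀)⁻¹⁻¹ := by rw [hx]; group
    rw [he, conj_pow, hyr]; group)
  refine ⟨simAut g₀ * simAut h₁ * (simAut g₀)⁻¹,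
    ⟨g₀ * h₁ * g₀⁻¹, mul_mem (mul_mem hg₀ hh₁K) (inv_mem hg₀), by rw [map_mul, map_mul, map_inv]⟩, ?_⟩
  rw [map_mul, map_mul, map_inv] at hh₁
  calc simAut d * x = simAut g₀ * ((simAut g₀)⁻¹ * simAut d * simAut g₀ * fieldAut σ) * (simAut g₀)⁻¹ := by
        rw [hx]; group
    _ = _ := by rw [hh₁, hx]; group

end CfsgLib.Descent
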